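import Cfsg.Agent.U5.Def
import Cfsg.Agent.S0480
import Cfsg.Agent.S0245
import Cfsg.Agent.S0280
import Cfsg.Agent.S0286
import Cfsg.Agent.S0292
import Cfsg.Agent.Gs.Main

/-! # The simple `3`-transposition group with `|G|₂ = 2 ^ 10` -/

set_option autoImplicit false
set_option linter.unusedVariables false
set_option linter.unusedSectionVars false

namespace Cfsg.Agent.U5
open Cfsg Cfsg.Agent.BG Subgroup PHom
open Cfsg.Agent.JS (Cj)
open Cfsg.Agent.S3F (p2 SCl)
open Cfsg.Agent.GF (Lx Pr Cp Tr bar ih_all)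
open Cfsg.Agent.G75 (Q Q_le Q_odd)

universe u

variable {G : Type u} [Group G] [Finite G] {ι : Su →* G} {H K P R X Y : Subgroup G} {A B : Subgroup Su}
  {x y : Su} {a b g w : G}

theorem two_part {k m n : ℕ} (hm : Odd m) (hn : Odd n) (e : 2 ^ 10 * m = 2 ^ k * n) : k = 10 := by
  have h1 : 2 ^ 10 ∣ 2 ^ k := (Nat.Coprime.pow_left _ (Nat.coprime_two_left.2 hn)).dvd_of_dvd_mul_right ⟨m, e.symm⟩
  have h2 : 2 ^ k ∣ 2 ^ 10 := (Nat.Coprime.pow_left _ (Nat.coprime_two_left.2 hm)).dvd_of_dvd_mul_right ⟨n, e⟩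
  exact le_antisymm ((Nat.pow_dvd_pow_iff_le_right (by decide)).1 h2) ((Nat.pow_dvd_pow_iff_le_right (by decide)).1 h1)

theorem odd_prod {n : ℕ} {f : ℕ → ℕ} (h : ∀ i, Odd (f i)) : Odd (∏ i ∈ Finset.range n, f i) := by
  induction n with
  | zero => simp
  | succ n ih => rw [Finset.prod_range_succ]; exact ih.mul (h n)

theorem odd_pow_sub (i : ℕ) : Odd (2 ^ (i + 1) - 1) :=
  Nat.Even.sub_odd Nat.one_le_two_pow (by rw [pow_succ]; exact even_two.mul_left _) odd_one

theorem TU.cardG (h : TU ι ⊤) : ∃ m, Odd m ∧ Nat.card G = 2 ^ 10 * m := by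
  refine ⟨ι.range.index, ?_, ?_⟩
  · have := h.syl.not_dvd p2
    rw [relIndex_top_right] at this
    exact Nat.odd_iff.2 (by omega)
  · rw [← ι.range.card_mul_index, show Nat.card ι.range = 1024 from h.card_rg]; rfl

theorem TU.fin [IsSimpleGroup G] (h : TU ι ⊤) {F : Type*} [Field F] [Fintype F] (hF : Fintype.card F = 4)
    {D : Set G} (hD : Cfsg.IsThreeTranspositionClass D) : Nonempty (G ≃* Cfsg.PSU 5 F 2) := by
  obtain ⟨m, hm, c⟩ := h.cardG
  have na : ∃ x y : G, x * y ≠ y * x := by
    obtain ⟨x, y, e⟩ : ∃ x y : Su, x * y ≠ y * x := ⟨⟨⟨true, false⟩, 0, 0, 0, false, false⟩, ⟨0, 0, 0, ⟨true, false⟩, false, false⟩, by decide⟩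
    exact ⟨ι x, ι y, fun k => e (h.inj (by rw [map_mul, map_mul, k]))⟩
  have m2 := Nat.odd_iff.1 hm
  rcases S0480.result na hD with ⟨n, ⟨e⟩⟩ | ⟨F', _, _, n, hF', ⟨e⟩⟩ | ⟨n, ⟨e⟩⟩ | ⟨-, e⟩ | ⟨-, e⟩
  · have k := S0245.result (F := ZMod 2) (q := 2) (by simp) n
    rw [← Nat.card_congr e.toEquiv, c] at k
    have := two_part hm (odd_prod fun i => by rw [two_mul, ← add_assoc]; exact odd_pow_sub _) k
    have : n < 4 := by nlinarith
    interval_cases n <;> omega
  · have n2 : 2 ≤ n := by
      by_contra! k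
      obtain ⟨x, y, xy⟩ := na
      have : ∀ u v : PSU n F' 2, u * v = v * u := fun u v => by
        induction u using QuotientGroup.induction_on with | H u =>
        induction v using QuotientGroup.induction_on with | H v =>
        rw [← QuotientGroup.mk_mul, ← QuotientGroup.mk_mul]
        congr 1
        ext i j
        have : Subsingleton (Fin n) := Fin.subsingleton_iff_le_one.2 (by omega)
        obtain rfl := Subsingleton.elim i j
        simp only [Subgroup.coe_mul, Matrix.SpecialLinearGroup.coe_mul, Matrix.mul_apply]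
        rw [Fintype.sum_subsingleton _ i, Fintype.sum_subsingleton _ i, mul_comm]
      exact xy (e.injective (by rw [map_mul, map_mul, this]))
    have k := S0280.result (F := F') (q := 2) (by rw [hF']; rfl) n n2
    rw [← Nat.card_congr e.toEquiv, c] at k
    have o3 : Odd (Nat.gcd n (2 + 1)) := Odd.of_dvd_nat (by decide : Odd 3) (Nat.gcd_dvd_right _ _)
    have := two_part (m := Nat.gcd n (2 + 1) * ((2 + 1) * m)) (o3.mul ((by decide : Odd 3).mul hm))
      (odd_prod (n := n) (f := fun i => if Even i then 2 ^ (i + 1) + 1 else 2 ^ (i + 1) - 1) fun i => by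
        split_ifs
        · exact Even.add_one (by rw [pow_succ]; exact even_two.mul_left _)
        · exact odd_pow_sub _) (k := n * (n - 1) / 2) (by rw [← k]; ring)
    have n5 : n = 5 := by
      have : n < 6 := by
        by_contra! k
        have : 6 * 5 ≤ n * (n - 1) := Nat.mul_le_mul k (by omega)
        omega
      interval_cases n <;> omega
    subst n5
    exact ⟨e.trans (Class.quotCenterCongr (Gs.suCongr (FiniteField.ringEquivOfCardEq (hF'.trans hF.symm)) 5 2))⟩
  · exfalso
    by_cases n3 : 3 ≤ n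
    · have k := S0292.result (F := ZMod 3) (q := 3) (by simp) (by decide) n n3
      rw [← Nat.card_congr e.toEquiv, c] at k
      rcases n3.eq_or_lt with rfl | n4
      · simp [Finset.prod_range_succ] at k; omega
      · have d : ∏ i ∈ Finset.range 4, (3 ^ (2 * (i + 1)) - 1) ∣ ∏ i ∈ Finset.range n, (3 ^ (2 * (i + 1)) - 1) :=
          Finset.prod_dvd_prod_of_subset _ _ _ (Finset.range_subset_range.2 n4)
        have d2 : 2 ^ 12 ∣ 2 * (2 ^ 10 * m) :=
          k ▸ (((by decide : 2 ^ 12 ∣ ∏ i ∈ Finset.range 4, (3 ^ (2 * (i + 1)) - 1)).trans d).mul_left _)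
        omega
    · have k := S0286.result (F := ZMod 3) (q := 3) (by simp) (by decide) n
      have d : Nat.card G ∣ Nat.card (isometryGroup (ZMod 3) (quadFormOdd n (ZMod 3))) := by
        rw [Nat.card_congr e.toEquiv]
        exact (card_quotient_dvd_card _).trans (card_subgroup_dvd_card _)
      rw [k, c] at d
      have d' := (Dvd.intro _ rfl).trans d
      have : n < 3 := by omega
      interval_cases n <;> simp [Finset.prod_range_succ] at d'
  · omega
  · omega

end Cfsg.Agent.U5
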