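import Cfsg.Agent.U5.Def
import Cfsg.Agent.S0278
import Cfsg.Agent.S0280

/-! # The Sylow `2`-subgroup of `U₅(2)` is `Su` -/

set_option autoImplicit false
set_option linter.unusedVariables false
set_option linter.unusedSectionVars false

namespace Cfsg.Agent.U5
open Cfsg Cfsg.Agent.BG Subgroup PHom
open Cfsg.Agent.JS (Cj)
open Cfsg.Agent.S3F (p2 SCl)
open Cfsg.Agent.GF (Lx Pr Cp Tr bar ih_all)
open Cfsg.Agent.G75 (Q Q_le Q_odd)

universe u

variable {G : Type u} [Group G] [Finite G] {ι : Su →* G} {H K P R X Y : Subgroup G} {A B : Subgroup Su}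
  {x y : Su} {a b g w : G}

section model
open Cfsg.Agent.JS (F4)
open Cfsg.Agent.JS.F4 Matrix Su

/-- the unitriangular matrix of an element -/
def mM (x : Su) : Matrix (Fin 5) (Fin 5) F4 :=
  !![1, x.a, x.a * x.e + x.b, x.a * FF x + x.b * F4.cj x.e + x.c, DD x; 0, 1, x.e, FF x, F4.cj x.c;
    0, 0, 1, F4.cj x.e, F4.cj x.b; 0, 0, 0, 1, F4.cj x.a; 0, 0, 0, 0, 1]
def mJ : Matrix (Fin 5) (Fin 5) F4 := !![0, 0, 0, 0, 1; 0, 0, 0, 1, 0; 0, 0, 1, 0, 0; 0, 1, 0, 0, 0; 1, 0, 0, 0, 0]
def mP : Matrix (Fin 5) (Fin 5) F4 :=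
  !![1, 0, 0, 0, F4.w; 1, 0, 0, 0, F4.w + 1; 0, 0, 1, 0, 0; 0, 1, 0, F4.w, 0; 0, 1, 0, F4.w + 1, 0]
def mQ : Matrix (Fin 5) (Fin 5) F4 :=
  !![F4.w + 1, F4.w, 0, 0, 0; 0, 0, 0, F4.w + 1, F4.w; 0, 0, 1, 0, 0; 0, 0, 0, 1, 1; 1, 1, 0, 0, 0]

/-- conjugation of `F4` -/
def cjH : F4 →+* F4 := ⟨⟨⟨F4.cj, by decide⟩, F4.cj_mul⟩, by decide, F4.cj_add⟩

theorem mM_mul (x y : Su) : mM (x * y) = mM x * mM y := by
  have hx := trF x
  have e1 : FF (x * y) = mF x y := FF_mul x y
  have e2 : DD (x * y) = mD x y := DD_mul x y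
  have e3 : x * y = Su.mul x y := rfl
  refine Matrix.ext fun i j => ?_
  rw [mM, e1, e2, e3]
  fin_cases i <;> fin_cases j <;>
    simp [mM, Matrix.mul_apply, Fin.sum_univ_succ, Su.mul, mF, mD, cD, F4.cj_add, F4.cj_mul, F4.cj_cj]
  all_goals first
    | ring1
    | linear_combination (x.e * y.a) * F4.two
    | linear_combination y.a * hx + (x.e * x.e.cj * y.a + y.a * x.e * y.e.cj + y.b * x.e.cj) * F4.two
theorem mM_one : mM 1 = 1 := by decide +kernel
theorem cj0 : F4.cj 0 = 0 := rfl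
theorem cj1 : F4.cj 1 = 1 := rfl
theorem aa : ∀ x : F4, x + x = 0 := by decide
theorem mM_unit (x : Su) : (mM x)ᵀ * mJ * (mM x).map F4.cj = mJ := by
  have hF := trF x
  have hD := trD x
  refine Matrix.ext fun i j => ?_
  fin_cases i <;> fin_cases j <;>
    simp [mM, mJ, Matrix.mul_apply, Fin.sum_univ_succ, F4.cj_add, F4.cj_mul, F4.cj_cj, cj0, cj1, aa]
  · linear_combination (x.b + x.e * x.a) * F4.two
  · linear_combination hF + (x.e * x.e.cj) * F4.two
  · linear_combination (x.c + x.e.cj * x.b + x.FF * x.a) * F4.two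
  · linear_combination (x.a.cj * x.FF.cj + x.b.cj * x.e + x.c.cj) * F4.two
  · linear_combination hD + (x.a * x.c.cj + x.b * x.b.cj + x.c * x.a.cj) * F4.two
theorem mM_inj (x : Su) (h : mM x = 1) : x = 1 := by
  have a : x.a = 0 := congrFun₂ h 0 1
  have b : F4.cj x.b = 0 := congrFun₂ h 2 4
  have c : F4.cj x.c = 0 := congrFun₂ h 1 4
  have e : x.e = 0 := congrFun₂ h 1 2
  have f : FF x = 0 := congrFun₂ h 1 3
  have d : DD x = 0 := congrFun₂ h 0 4
  exact Su.ext a ((F4.cj_cj _).symm.trans (congrArg F4.cj b)) ((F4.cj_cj _).symm.trans (congrArg F4.cj c)) e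
    (congrArg F4.x0 f) (congrArg F4.x0 d)
theorem mM_det (x : Su) : (mM x).det = 1 := by
  rw [Matrix.det_of_upperTriangular]
  · simp [mM, Fin.prod_univ_succ]
  · intro i j h
    fin_cases i <;> fin_cases j <;> simp_all [mM]
theorem mPQ : mP * mQ = 1 := by decide +kernel
theorem mQP : mQ * mP = 1 := by decide +kernel
theorem mPP : mPᵀ * mP.map F4.cj = mJ := by decide +kernel
theorem mQQ : mQᵀ * mJ * mQ.map F4.cj = 1 := by decide +kernel

/-- the matrix for the standard form -/
def mN (x : Su) : Matrix (Fin 5) (Fin 5) F4 := mP * mM x * mQ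

theorem mN_mul (x y : Su) : mN (x * y) = mN x * mN y := by
  simp only [mN, mM_mul, Matrix.mul_assoc]
  rw [← Matrix.mul_assoc mQ, mQP, Matrix.one_mul]
theorem mN_det (x : Su) : (mN x).det = 1 := by
  rw [mN, det_mul, det_mul, mM_det, mul_one, ← det_mul, mPQ, det_one]
theorem mN_unit (x : Su) : (mN x)ᵀ * (mN x).map F4.cj = 1 := by
  have e : (mN x).map F4.cj = mP.map F4.cj * (mM x).map F4.cj * mQ.map F4.cj := by
    have := fun A B : Matrix (Fin 5) (Fin 5) F4 => Matrix.map_mul (L := A) (M := B) (f := cjH)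
    exact (this _ _).trans (congrArg (· * _) (this _ _))
  rw [e, mN, transpose_mul, transpose_mul, ← mQQ, ← mM_unit x, ← mPP]
  simp only [Matrix.mul_assoc]
theorem mN_inj (x : Su) (h : mN x = 1) : x = 1 := mM_inj x <| by
  have : mQ * mN x * mP = mM x := by
    simp only [mN, ← Matrix.mul_assoc, mQP, Matrix.one_mul]
    rw [Matrix.mul_assoc, mQP, Matrix.mul_one]
  rw [← this, h, Matrix.mul_one, mQP]

theorem exists_emb {F : Type*} [Field F] [Fintype F] (hF : Fintype.card F = 4) :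
    ∃ ψ : F4 →+* F, Function.Injective ψ ∧ ∀ x, ψ (F4.cj x) = ψ x ^ 2 := by
  classical
  have h2 : (2 : F) = 0 := by
    have := FiniteField.cast_card_eq_zero F
    rw [hF] at this
    exact pow_eq_zero_iff (n := 2) (by decide) |>.1 (by rw [← this]; norm_num)
  obtain ⟨o, ho⟩ := exists_prime_orderOf_dvd_card' (G := Fˣ) (hp := ⟨Nat.prime_three⟩) 3
    (by rw [Nat.card_units, Nat.card_eq_fintype_card, hF])
  have o3 : (o : F) ^ 3 = 1 := by rw [← Units.val_pow_eq_pow_val, ← ho, pow_orderOf_eq_one, Units.val_one]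
  have o1 : (o : F) - 1 ≠ 0 := fun e => by
    rw [sub_eq_zero, Units.val_eq_one] at e
    rw [e, orderOf_one] at ho; omega
  have q : (o : F) ^ 2 + o + 1 = 0 := (mul_eq_zero.1 (by linear_combination o3)).resolve_left o1
  let f : F4 → F := fun x => (bif x.1 then 1 else 0) + bif x.2 then (o : F) else 0
  let ψ : F4 →+* F :=
    { toFun := f
      map_one' := by simp [f, show (1 : F4) = ⟨true, false⟩ from rfl]
      map_zero' := by simp [f, show (0 : F4) = ⟨false, false⟩ from rfl]
      map_mul' := by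
        rintro ⟨_ | _, _ | _⟩ ⟨_ | _, _ | _⟩ <;> simp [f, HMul.hMul, Mul.mul] <;>
          change _ = (_ : F) * _ <;>
          first
          | ring1
          | linear_combination -q + (o + 1) * h2
          | linear_combination -q + h2
          | linear_combination -q
      map_add' := by
        rintro ⟨_ | _, _ | _⟩ ⟨_ | _, _ | _⟩ <;> change f ⟨_, _⟩ = _ <;> simp [f] <;>
          first
          | ring1
          | linear_combination -h2
          | linear_combination -(o : F) * h2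
          | linear_combination -(1 + o : F) * h2 }
  refine ⟨ψ, (injective_iff_map_eq_zero ψ).2 fun x h => by_contra fun c => ?_, ?_⟩
  · have : ∀ x : F4, x ≠ 0 → x * (x * x) = 1 := by decide
    have := congrArg ψ (this x c)
    rw [map_mul, h, zero_mul, map_one] at this
    exact zero_ne_one this
  · intro x
    rw [pow_two, ← map_mul, (by decide : ∀ x : F4, F4.cj x = x * x)]

theorem exists_U {F : Type*} [Field F] [Fintype F] (hF : Fintype.card F = 4) :
    ∃ ι : Su →* SU 5 F 2, Function.Injective ι := by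
  obtain ⟨ψ, i, c⟩ := exists_emb hF
  have mem : ∀ x : Su, (⟨(mN x).map ψ, by
      rw [← RingHom.mapMatrix_apply, ← RingHom.map_det, mN_det, map_one]⟩ : SpecialLinearGroup (Fin 5) F) ∈ SU 5 F 2 :=
    fun x u v => by
      change hermForm 5 F 2 ((mN x).map ψ *ᵥ u) ((mN x).map ψ *ᵥ v) = _
      haveI : CharP F 2 := by
        have : (2 : F) = 0 := by rw [← map_ofNat ψ, F4.two, map_zero]
        exact CharTwo.of_one_ne_zero_of_two_eq_zero one_ne_zero this
      have e : ((mN x).map ψ)ᵀ * ((mN x).map F4.cj).map ψ = 1 := by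
        rw [← transpose_map, ← Matrix.map_mul, mN_unit, Matrix.map_one _ (map_zero ψ) (map_one ψ)]
      have k : ∀ (M : Matrix (Fin 5) (Fin 5) F4) (i : Fin 5),
          (M.map ψ *ᵥ v) i ^ 2 = ((M.map F4.cj).map ψ *ᵥ fun j => v j ^ 2) i := fun M i => by
        simp only [mulVec, dotProduct, map_apply, c]
        rw [sum_pow_char 2]; simp only [mul_pow]
      simp only [hermForm, k]
      change (mN x).map ψ *ᵥ u ⬝ᵥ _ *ᵥ _ = u ⬝ᵥ fun j => v j ^ 2
      rw [dotProduct_mulVec, vecMul_mulVec, ← dotProduct_mulVec, e, one_mulVec]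
  refine ⟨MonoidHom.mk' (fun x => ⟨_, mem x⟩) fun x y => ?_, (injective_iff_map_eq_one _).2 fun x h => mN_inj x ?_⟩
  · refine Subtype.ext (Subtype.ext ?_)
    change (mN (x * y)).map ψ = (mN x).map ψ * (mN y).map ψ
    rw [mN_mul, Matrix.map_mul]
  · have : (mN x).map ψ = 1 := congrArg (fun g : SU 5 F 2 => g.1.1) h
    rw [← Matrix.map_one ψ (map_zero ψ) (map_one ψ)] at this
    exact Matrix.map_injective i this

end model

theorem exists_iota {F : Type*} [Field F] [Fintype F] (hF : Fintype.card F = 4) (S : Sylow 2 G)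
    (P : Sylow 2 (Cfsg.PSU 5 F 2)) (hS : Nonempty ((S : Subgroup G) ≃* (P : Subgroup (Cfsg.PSU 5 F 2)))) :
    ∃ ι : Su →* G, TU ι ⊤ := by
  obtain ⟨e⟩ := hS
  obtain ⟨φ, i0⟩ := exists_U hF
  have c1 := S0278.result (F := F) (q := 2) (by rw [hF]; rfl) 5 (by decide)
  have c2 := S0280.result (F := F) (q := 2) (by rw [hF]; rfl) 5 (by decide)
  have c : Nat.card (PSU 5 F 2) = 13685760 := by
    have : (∏ i ∈ Finset.range 5, if Even i then 2 ^ (i + 1) + 1 else 2 ^ (i + 1) - 1) = 40095 := by decide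
    rw [this] at c2
    norm_num at c2
    omega
  have z : center (SU 5 F 2) = ⊥ := by
    have k := card_eq_card_quotient_mul_card_subgroup (center (SU 5 F 2))
    rw [← c1, show Nat.gcd 5 (2 + 1) = 1 from rfl, one_mul, k] at c2
    change _ = _ * (Nat.card (PSU 5 F 2) * _) at c2
    rw [c] at c2
    exact eq_bot_of_card_eq _ (by omega)
  let ι : Su →* PSU 5 F 2 := (QuotientGroup.mk' _).comp φ
  have i : Function.Injective ι :=
    ((MonoidHom.ker_eq_bot_iff _).1 ((QuotientGroup.ker_mk' _).trans z)).comp i0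
  haveI : Finite (PSU 5 F 2) := Nat.finite_of_card_ne_zero (by rw [c]; decide)
  let P' : Sylow 2 (PSU 5 F 2) := Sylow.ofCard ι.range (by
    rw [← Nat.card_congr (MonoidHom.ofInjective i).toEquiv, Su.card, c,
      show 13685760 = 2 ^ 10 * 13365 from rfl, Nat.factorization_mul (by decide) (by decide), Nat.factorization_pow]
    simp [Nat.factorization_eq_zero_of_not_dvd (show ¬ 2 ∣ 13365 by decide), Nat.prime_two.factorization])
  let E : Su ≃* S := ((MonoidHom.ofInjective i).trans (P'.equiv P)).trans e.symm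
  refine ⟨(S : Subgroup G).subtype.comp E.toMonoidHom, (subtype_injective _).comp E.injective, ?_⟩
  rw [← MonoidHom.map_range, MonoidHom.range_eq_top.2 E.surjective, ← MonoidHom.range_eq_map, range_subtype]
  exact syl_top p2 S

end Cfsg.Agent.U5
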