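import Cfsg.Agent.U5.Def

/-! # The action of a product of two transvections on `Q / Z` -/

set_option autoImplicit false
set_option Elab.async false
namespace Cfsg.Agent.U5
open Cfsg Cfsg.Agent.BG Subgroup PHom
open Cfsg.Agent.JS (F4)

def sg (t1 t2 q : Su) : Su := q * (if q * t2 = t2 * q then 1 else t1) * (if q * t1 = t1 * q then 1 else t2)
def FG (t1 t2 q : Su) : Su := t0 * sg t1 t2 q * t0⁻¹
def gl : List Su := [⟨1, 0, 0, 0, false, false⟩, ⟨JS.F4.w, 0, 0, 0, false, false⟩, ⟨0, 1, 0, 0, false, false⟩,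
  ⟨0, JS.F4.w, 0, 0, false, false⟩, w1, w2]
theorem sg_w : ∀ q ∈ Q0, (sg w1 w2 q)⁻¹ * (t0 * q * t0⁻¹) ∈ Z0 := by decide +kernel

def fb (b : Bool) (k : Bool → Bool) : Bool := cond b (k true) (k false)
theorem fb_eq (b : Bool) (k : Bool → Bool) : fb b k = k b := by cases b <;> rfl
def f4 (x : F4) (k : F4 → Bool) : Bool := fb x.1 fun p => fb x.2 fun q => k ⟨p, q⟩
theorem f4_eq (x : F4) (k : F4 → Bool) : f4 x k = k x := by simp only [f4, fb_eq]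
def fs (x : Su) (k : Su → Bool) : Bool :=
  f4 x.a fun a => f4 x.b fun b => f4 x.c fun c => f4 x.e fun e => fb x.f fun f => fb x.d fun d => k ⟨a, b, c, e, f, d⟩
theorem fs_eq (x : Su) (k : Su → Bool) : fs x k = k x := by simp only [fs, f4_eq, fb_eq]
def FK (t1 t2 q : Su) (k : Su → Bool) : Bool :=
  fs (sg t1 t2 q) fun s => fs (t0 * s) fun r => fs (r * t0⁻¹) k
theorem FK_eq (t1 t2 q : Su) (k : Su → Bool) : FK t1 t2 q k = k (FG t1 t2 q) := by simp only [FK, fs_eq, FG]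
def ck (t1 t2 : Su) : Bool := gl.all fun q => FK t1 t2 q fun u => FK t1 t2 u fun v => FK t1 t2 v fun r => pZ (q⁻¹ * r)
def mq (a b c : F4) (d : Bool) : Su := ⟨a, b, c, 0, false, d⟩
theorem mq_eq : ∀ x ∈ Q0, x = mq x.a x.b x.c x.d := by decide +kernel
theorem cub0 (a b : F4) : ∀ (c : F4) (d : Bool), mq a b c d * mq a b c d = 1 → mq a b c d ∉ V0 →
    ∀ (a' b' c' : F4) (d' : Bool), mq a' b' c' d' * mq a' b' c' d' = 1 → mq a' b' c' d' ∉ V0 →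
    mq a b c d * mq a' b' c' d' = mq a' b' c' d' * mq a b c d → mq a b c d * mq a' b' c' d' ∉ V0 →
    ck (mq a b c d) (mq a' b' c' d') = true := by
  rcases a with ⟨_ | _, _ | _⟩ <;> rcases b with ⟨_ | _, _ | _⟩ <;> decide +kernel
theorem cub : ∀ t1 ∈ Q0, t1 * t1 = 1 → t1 ∉ V0 → ∀ t2 ∈ Q0, t2 * t2 = 1 → t2 ∉ V0 → t1 * t2 = t2 * t1 →
    t1 * t2 ∉ V0 → ∀ q ∈ gl, q⁻¹ * FG t1 t2 (FG t1 t2 (FG t1 t2 q)) ∈ Z0 := by
  intro t1 a1 a2 a3 t2 b1 b2 b3 c1 c2 q m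
  have := cub0 t1.a t1.b t1.c t1.d
  rw [← mq_eq t1 a1] at this
  have := this a2 a3 t2.a t2.b t2.c t2.d
  rw [← mq_eq t2 b1] at this
  have := List.all_eq_true.1 (this b2 b3 c1 c2) q m
  simp only [FK_eq] at this
  exact this
def pw (b : Bool) (x : Su) : Su := if b then x else 1
theorem gen : ∀ q ∈ Q0, (pw q.a.1 ⟨1, 0, 0, 0, false, false⟩ * pw q.a.2 ⟨JS.F4.w, 0, 0, 0, false, false⟩ *
    pw q.b.1 ⟨0, 1, 0, 0, false, false⟩ * pw q.b.2 ⟨0, JS.F4.w, 0, 0, false, false⟩)⁻¹ * q ∈ E0 := by decide +kernel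
theorem gen2 : ∀ q ∈ E0, (pw q.c.1 w1 * pw q.c.2 w2)⁻¹ * q ∈ Z0 := by decide +kernel
end Cfsg.Agent.U5
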