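import Cfsg.Agent.U5.Cz
import Cfsg.Agent.U5.Cub0

/-! # Two non-commuting transvections of `C(z)` generate `S₃` -/

set_option autoImplicit false
set_option linter.unusedVariables false
set_option linter.unusedSectionVars false

namespace Cfsg.Agent.U5
open Cfsg Cfsg.Agent.BG Subgroup PHom
open Cfsg.Agent.JS (Cj)
open Cfsg.Agent.S3F (p2 SCl)
open Cfsg.Agent.GF (Lx Pr Cp Tr bar ih_all)
open Cfsg.Agent.G75 (Q Q_le Q_odd)

universe u

variable {G : Type u} [Group G] [Finite G] {ι : Su →* G} {H K P R X Y : Subgroup G} {A B : Subgroup Su}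
  {x y : Su} {a b g w : G}

theorem Z_cen {e : Su} (he : e ∈ Z0) (s : Su) : s * e = e * s := by
  rcases (mem_Z0 e).1 he with rfl | rfl
  · simp
  · exact z0_cen s

theorem Z_Q : Z0 ≤ Q0 := Z_E.trans E_Q

theorem sg_mem {t1 t2 q : Su} (a : t1 ∈ Q0) (b : t2 ∈ Q0) (c : q ∈ Q0) : sg t1 t2 q ∈ Q0 := by
  refine mul_mem (mul_mem c ?_) ?_ <;> split_ifs
  exacts [one_mem _, a, one_mem _, b]

theorem FG_mem {t1 t2 q : Su} (a : t1 ∈ Q0) (b : t2 ∈ Q0) (c : q ∈ Q0) : FG t1 t2 q ∈ Q0 :=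
  le_N_iff.1 n_Q t0 (mem_top _) _ (sg_mem a b c)

theorem Pull.cm_iff {σ : Su → Su} (q : Pull ι g A σ) (a : x ∈ A) (b : y ∈ A) :
    σ x * σ y = σ y * σ x ↔ x * y = y * x :=
  ⟨fun e => q.inj _ (mul_mem a b) _ (mul_mem b a) (by rw [q.mul x a y b, q.mul y b x a, e]), q.cm a b⟩

theorem Pull.sg {σ : Su → Su} (q : Pull ι g Q0 σ) (a : x ∈ Q0) : σ (sg w1 w2 x) = sg (σ w1) (σ w2) (σ x) := by
  have b : w1 ∈ Q0 := by decide
  have c : w2 ∈ Q0 := by decide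
  have e1 : σ (if x * w2 = w2 * x then 1 else w1) = if σ x * σ w2 = σ w2 * σ x then 1 else σ w1 := by
    simp only [q.cm_iff a c]; split_ifs
    exacts [q.one, rfl]
  have e2 : σ (if x * w1 = w1 * x then 1 else w2) = if σ x * σ w1 = σ w1 * σ x then 1 else σ w2 := by
    simp only [q.cm_iff a b]; split_ifs
    exacts [q.one, rfl]
  have m1 : (if x * w2 = w2 * x then 1 else w1) ∈ Q0 := by
    split_ifs
    exacts [one_mem _, b]
  have m2 : (if x * w1 = w1 * x then 1 else w2) ∈ Q0 := by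
    split_ifs
    exacts [one_mem _, c]
  rw [U5.sg, U5.sg, q.mul _ (mul_mem a m1) _ m2, q.mul _ a _ m1, e1, e2]

theorem pw_mem {T : Subgroup G} (b : Bool) (h : ι x ∈ T) : ι (pw b x) ∈ T := by
  cases b
  · exact (map_one ι).symm ▸ one_mem T
  · exact h

theorem TU.cube (h : TU ι H) (c : H ≤ C1[ι z0]) (o : O[{2}ᶜ](H) = ⊥) (hg : g ∈ H)
    (d : ∀ x ∈ E0, g * ι x * g⁻¹ ∈ V0.map ι → x ∈ Z0) (od : PiE {2}ᶜ (ι t0 * (g * ι t0 * g⁻¹))) :
    (ι t0 * (g * ι t0 * g⁻¹)) ^ 3 = 1 := by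
  have n := le_N_iff.1 (h.nQ c o)
  have cz : ∀ k ∈ H, ∀ e ∈ Z0, k * ι e = ι e * k := fun k hk e he => by
    rcases (mem_Z0 e).1 he with rfl | rfl
    · simp
    · exact mem_C1.1 (c hk)
  obtain ⟨σ, q⟩ := h.pull (g := g) (A := Q0) ((cj_le_of_mem le_rfl (h.nQ c o hg)).trans (map_le _))
  have mq : ∀ x ∈ Q0, σ x ∈ Q0 := fun x a => h.mem_iff.1 (q.eq x a ▸ n g hg _ (mem_im a))
  have nV : ∀ x ∈ E0, x ∉ Z0 → σ x ∉ V0 := fun x a b e => b (d x a (q.eq x (E_Q a) ▸ mem_im e))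
  have b1 : w1 ∈ Q0 := by decide
  have b2 : w2 ∈ Q0 := by decide
  set k := ι t0 * (g * ι t0 * g⁻¹) with hk
  have kH : k ∈ H := mul_mem (h.mem _) (mul_mem (mul_mem hg (h.mem _)) (inv_mem hg))
  have st : ∀ x ∈ Q0, ∀ e ∈ Z0, ∃ f ∈ Z0, k * ι (x * e) * k⁻¹ = ι (FG (σ w1) (σ w2) x * f) := by
    intro x a e he
    obtain ⟨p, hp, ep⟩ := n g⁻¹ (inv_mem hg) _ (mem_im a)
    have e1 : σ p = x := h.inj (by rw [q.eq p hp, ep]; group)
    have z1 := sg_w p hp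
    have e2 : t0 * p * t0⁻¹ = sg w1 w2 p * ((sg w1 w2 p)⁻¹ * (t0 * p * t0⁻¹)) := by group
    generalize (sg w1 w2 p)⁻¹ * (t0 * p * t0⁻¹) = f at z1 e2
    have e3 : g * ι t0 * g⁻¹ * ι x * (g * ι t0 * g⁻¹)⁻¹ = ι (sg (σ w1) (σ w2) x) * ι f := by
      rw [← e1, ← q.sg hp, q.eq p hp, q.eq _ (sg_mem b1 b2 hp), mul_assoc _ g⁻¹ (ι f), cz _ (inv_mem hg) f z1,
        ← mul_assoc _ (ι f), mul_assoc g _ (ι f), ← map_mul, ← e2, map_mul, map_mul, map_inv]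
      group
    refine ⟨f * e, mul_mem z1 he, ?_⟩
    rw [map_mul, ← mul_assoc, mul_assoc _ (ι e), ← cz _ (inv_mem kH) e he, ← mul_assoc, ← mul_assoc, map_mul]
    congr 1
    rw [FG, mul_assoc _ t0⁻¹, Z_cen z1, map_mul, map_mul, map_mul, map_inv, ← mul_assoc _ (ι f),
      mul_assoc (ι t0) _ (ι f), ← e3, hk]
    group
  have s3 : ∀ x ∈ gl, ι x ∈ C1[(k ^ 3) ^ 2] := by
    intro x a
    have m : x ∈ Q0 := (by decide +kernel : ∀ x ∈ gl, x ∈ Q0) x a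
    have m1 := FG_mem (mq _ b1) (mq _ b2) m
    obtain ⟨f1, a1, e1⟩ := st x m 1 (one_mem _)
    obtain ⟨f2, a2, e2⟩ := st _ m1 f1 a1
    obtain ⟨f3, a3, e3⟩ := st _ (FG_mem (mq _ b1) (mq _ b2) m1) f2 a2
    have z := mul_mem (cub _ (mq _ b1) (q.sq1 b1 (by decide)) (nV _ (by decide) (by decide)) _ (mq _ b2)
      (q.sq1 b2 (by decide)) (nV _ (by decide) (by decide)) (q.cm b1 b2 (by decide))
      (q.mul _ b1 _ b2 ▸ nV _ (by decide) (by decide)) x a) a3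
    rw [← e2, ← e1, mul_one] at e3
    rw [mul_assoc] at z
    generalize FG (σ w1) (σ w2) (FG (σ w1) (σ w2) (FG (σ w1) (σ w2) x)) * f3 = u at z e3
    have e4 : k ^ 3 * ι x = ι x * ι (x⁻¹ * u) * k ^ 3 := by
      rw [← map_mul, mul_inv_cancel_left, ← e3, pow_three']; group
    have e5 : ι (x⁻¹ * u) * ι (x⁻¹ * u) = 1 := by
      rw [← map_mul, (by decide +kernel : ∀ e ∈ Z0, e * e = 1) _ z, map_one]
    have e6 := cz _ (pow_mem kH 3) _ z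
    generalize ι (x⁻¹ * u) = r at e4 e5 e6
    generalize k ^ 3 = l at e4 e6
    rw [mem_C1, pow_two, eq_comm]
    calc l * l * ι x = l * ι x * r * l := by rw [mul_assoc l l, mul_assoc l, mul_assoc l, ← e4]
      _ = ι x * r * (l * r) * l := by rw [e4]; simp only [mul_assoc]
      _ = ι x * (r * r) * (l * l) := by rw [e6]; group
      _ = _ := by rw [e5, mul_one]
  have lH : (k ^ 3) ^ 2 ∈ H := pow_mem (pow_mem kH 3) 2
  have sZ : ∀ x ∈ Z0, ι x ∈ C1[(k ^ 3) ^ 2] := fun x a => mem_C1.2 (cz _ lH x a).symm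
  have sE : ∀ x ∈ E0, ι x ∈ C1[(k ^ 3) ^ 2] := fun x a => by
    have := mul_mem (mul_mem (pw_mem x.c.1 (s3 w1 (by decide))) (pw_mem x.c.2 (s3 w2 (by decide)))) (sZ _ (gen2 x a))
    rwa [← map_mul, ← map_mul, mul_inv_cancel_left] at this
  have sQ : (k ^ 3) ^ 2 ∈ C[Q0.map ι] := by
    refine mem_C.2 ?_
    rintro _ ⟨x, a, rfl⟩
    have := mul_mem (mul_mem (mul_mem (mul_mem (pw_mem x.a.1 (s3 ⟨1, 0, 0, 0, false, false⟩ (by decide)))
      (pw_mem x.a.2 (s3 ⟨JS.F4.w, 0, 0, 0, false, false⟩ (by decide))))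
      (pw_mem x.b.1 (s3 ⟨0, 1, 0, 0, false, false⟩ (by decide))))
      (pw_mem x.b.2 (s3 ⟨0, JS.F4.w, 0, 0, false, false⟩ (by decide)))) (sE _ (gen x a))
    rw [← map_mul, ← map_mul, ← map_mul, ← map_mul, mul_inv_cancel_left] at this
    exact mem_C1.1 this
  have e := PiE.eq_one ((map_pig Z0).elt (h.cQ c o ⟨lH, sQ⟩)) ((od.pow 3).pow 2)
  exact PiE.eq_one (pie_of_pow p2 e) (od.pow 3)

end Cfsg.Agent.U5
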