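import Cfsg.Agent.U5.Sig
import Cfsg.Agent.U5.Cub
import Cfsg.Agent.HJ.Abs1

/-! # The conjugates of `z` are `3`-transpositions -/

set_option autoImplicit false
set_option linter.unusedVariables false
set_option linter.unusedSectionVars false

namespace Cfsg.Agent.U5
open Cfsg Cfsg.Agent.BG Subgroup PHom
open Cfsg.Agent.JS (Cj)
open Cfsg.Agent.S3F (p2 SCl)
open Cfsg.Agent.GF (Lx Pr Cp Tr bar ih_all)
open Cfsg.Agent.G75 (Q Q_le Q_odd)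

universe u

variable {G : Type u} [Group G] [Finite G] {ι : Su →* G} {H K P R X Y : Subgroup G} {A B : Subgroup Su}
  {x y : Su} {a b g w : G}

theorem sing_Q : ∀ x ∈ sing, ∀ y ∈ sing, y ≠ z0 → x = z0 ∨ ∃ q ∈ Q0, q * y * q⁻¹ = x := by decide +kernel
def rp (a : JS.F4) : Su := ⟨a, 0, 0, 0, false, false⟩
def l24 : List Su := JS.F4.all.flatMap fun e => [false, true].flatMap fun f => [0, 1, JS.F4.w].map fun c =>
  ⟨0, 0, c, e, f, false⟩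
theorem cls : ∀ t : Su, t * t = 1 → t ∉ V0 → t.a ≠ 0 ∧ ∃ s ∈ l24, s * t * s⁻¹ = rp t.a := by decide +kernel
theorem cover : ∀ a b c : JS.F4, a ≠ 0 → b ≠ 0 → a + b ≠ 0 → c ≠ 0 → c = a ∨ c = b ∨ c = a + b := by decide
theorem E_ns : ∀ x ∈ E0, x ∉ Z0 → x ∉ sing := by decide +kernel
theorem V_comm (ha : a ∈ V0.map ι) (hb : b ∈ V0.map ι) : a * b = b * a := mem_C.1 ((ab_V.map ι).abel hb) a ha

theorem genV (k : ∀ p ∈ sing, g * ι p * g⁻¹ ∈ Y) : BG.cj g (V0.map ι) ≤ Y := fun a ha => by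
  obtain ⟨_, ⟨x, b, rfl⟩, rfl⟩ := exists_of_mem_cj ha
  by_cases n : x = 1
  · simp [n]
  by_cases m : x ∈ sing
  · exact k x m
  obtain ⟨p, p1, q, q1, -, rfl⟩ := sing_pr x b n m
  rw [map_mul, ← conj_mul]
  exact mul_mem (k p p1) (k q q1)

theorem dih2 (x2 : a * a = 1) (y2 : b * b = 1) : Odd (orderOf (a * b)) ∨ ∃ w, w ≠ 1 ∧ w * w = 1 ∧ w * a = a * w ∧
    w * b = b * w ∧ (Cj ⊤ a (a * w) ∨ Cj ⊤ b (a * w)) := by
  have ia : a⁻¹ = a := inv_eq_of_mul_eq_one_right x2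
  have ib : b⁻¹ = b := inv_eq_of_mul_eq_one_right y2
  have e1 : ∀ n : ℕ, a * (a * b) ^ n * a⁻¹ = ((a * b) ^ n)⁻¹ := fun n => by
    rw [← conj_pow, ← inv_pow, mul_inv_rev, ia, ib, ← mul_assoc, x2, one_mul]
  have e2 : ∀ n : ℕ, b * (a * b) ^ n * b⁻¹ = ((a * b) ^ n)⁻¹ := fun n => by
    rw [← conj_pow, ← inv_pow, mul_inv_rev, ia, ib, mul_assoc, mul_assoc, y2, mul_one]
  refine (Nat.even_or_odd (orderOf (a * b))).symm.imp id fun ⟨j, hj⟩ => ?_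
  have hp := orderOf_pos (a * b)
  have w2 : (a * b) ^ j * (a * b) ^ j = 1 := by rw [← pow_add, ← hj, pow_orderOf_eq_one]
  have iw := inv_eq_of_mul_eq_one_right w2
  refine ⟨_, pow_ne_one_of_lt_orderOf (by omega) (by omega), w2, (mul_inv_eq_iff_eq_mul.1 ((e1 j).trans iw)).symm,
    (mul_inv_eq_iff_eq_mul.1 ((e2 j).trans iw)).symm, ?_⟩
  obtain ⟨i, rfl | rfl⟩ := Nat.even_or_odd' j
  · refine .inl ⟨((a * b) ^ i)⁻¹, mem_top _, ?_⟩
    nth_rewrite 1 [← e1 i]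
    rw [two_mul, pow_add]; group
  · refine .inr ⟨((a * b) ^ i)⁻¹, mem_top _, ?_⟩
    nth_rewrite 1 [← e2 i]
    rw [pow_succ', two_mul, pow_add, ← mul_assoc a, ← mul_assoc a, x2]; group

namespace TU
variable (h : TU ι ⊤) (zt : Cj ⊤ (ι z0) (ι t0)) (oz : Q (ι z0) = ⊥) (oc : Q (ι c0) = ⊥)
include h zt oz oc

theorem dK (e : Cj ⊤ (ι z0) w) (c : w ∈ C1[ι c0]) : w ∈ V0.map ι := by
  have n : w ∈ N[U0.map ι] := by
    have := h.Cc zt c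
    rw [oc, bot_sup_eq] at this
    exact this.2
  have pw : PiG {2} (zpowers w) := pig_zpowers.2 (pie_of_pow p2 ((pow_two w).trans (h.dsq e)))
  have k := fun p m => h.comm2 (b := ι p) le_top ((map_pig U0).sup_l pw (zpowers_le.2 n))
    (mem_sup_right (mem_zpowers w)) (mem_sup_left (mem_im m)) e
  have cz : w ∈ C1[ι z0] := mem_C1.2 (k z0 (by decide) (Cj.refl _ _))
  obtain ⟨g, hg, l⟩ := h.hz.cj_sub (X := zpowers w ⊔ zpowers (ι t0))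
    (sup_le (zpowers_le.2 cz) (zpowers_le.2 (h.hz.mem _))) (pw.sup_l (pig_zpowers.2 ((rg_pig ι).elt (mem_rg _)))
      (norm_zpowers (zpowers_le.2 (mem_C1'.2 (k t0 (by decide) zt)))))
  obtain ⟨x, i⟩ := l (mem_cj_conj.2 (mem_sup_left (mem_zpowers _)))
  obtain ⟨y, j⟩ := l (mem_cj_conj.2 (mem_sup_right (mem_zpowers _)))
  have ez := cz_fix hg
  rcases sing_Q x (h.dS (e.trans ⟨g, mem_top _, i.symm⟩)) y (h.dS (zt.trans ⟨g, mem_top _, j.symm⟩)) (fun m => by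
    rw [m, ← ez] at j
    exact absurd (h.inj (show ι z0 = ι t0 by simpa using j)) (by decide)) with m | ⟨q, q1, m⟩
  · rw [m] at i
    exact (show w = ι z0 by simpa using i.symm.trans ez.symm) ▸ mem_im z_V
  · obtain ⟨r, -, s⟩ := conj_mem (h.hz.nQ le_rfl oz (inv_mem hg)) (mem_im (ι := ι) q1)
    have : w = ι r * ι t0 * (ι r)⁻¹ := by
      rw [s, show g⁻¹ * ι q * g⁻¹⁻¹ * ι t0 * (g⁻¹ * ι q * g⁻¹⁻¹)⁻¹ = g⁻¹ * (ι q * (g * ι t0 * g⁻¹) * (ι q)⁻¹) * g by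
        group, ← j, ← map_inv, ← map_mul, ← map_mul, m, i]; group
    exact this ▸ conj_mem (rg_norm n_V (mem_rg r)) (mem_im t_V)

theorem NV : C1[ι c0] ≤ N[V0.map ι] := fun g hg => mem_N_of_cj_le (genV fun p m =>
  h.dK zt oz oc ((h.cjs zt m).trans ⟨g, mem_top _, rfl⟩)
    (conj_mem (normG _ hg) (mem_C1.2 (V_comm (mem_im (sing_V p m)) (mem_im c_V)))))

theorem dK' (a : x ∈ V0) (n : x ≠ 1) (m : x ∉ sing) (e : Cj ⊤ (ι z0) w) (c : w ∈ C1[ι x]) : w ∈ V0.map ι := by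
  obtain ⟨g, hg, k⟩ := (h.ctrl c_V a (h.cjc zt a n m)).symm
  refine (mem_N.1 (h.NR_NV hg.2) w).2 (h.dK zt oz oc (e.trans ⟨g, mem_top _, rfl⟩) ?_)
  rw [← k, ← cj_C1]; exact mem_cj_conj.2 c

theorem line (hg : g ∈ C1[ι z0]) (a : x ∈ E0) (n : x ∉ Z0) (i : g * ι x * g⁻¹ ∈ V0.map ι) : g ∈ N[V0.map ι] := by
  obtain ⟨y, b, e⟩ := i
  refine mem_N_of_cj_le (genV fun p m => h.dK' zt oz oc b (fun k => ?_)
    (fun k => E_ns x a n (h.sing_cj k (E_V a) (Cj.symm ⟨g, mem_top _, e.symm⟩)))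
    ((h.cjs zt m).trans ⟨g, mem_top _, rfl⟩) ?_)
  · rw [k, map_one] at e
    exact h.ne_one (x := x) (fun k => n (by rw [k]; exact one_mem _)) (by simpa using e.symm)
  · rw [e, ← cj_C1]; exact mem_cj_conj.2 (mem_C1.2 (V_comm (mem_im (sing_V p m)) (mem_im (E_V a))))

theorem nc : ¬ Cj ⊤ (ι z0) (ι c0) := fun e => absurd (h.dS e) (by decide)

theorem exm [IsSimpleGroup G] : ∃ g ∈ C1[ι z0], g ∉ N[V0.map ι] := by
  by_contra! n
  have cV : #(V0.map ι) = 16 := (h.card _).trans card_V0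
  refine (GF.gs (fun c => ?_) ι.range (V0.map ι) h.syl (fun e => by rw [e, card_bot] at cV; omega) (ab_V.map ι)
    ⟨map_le _, ?_⟩).elim (fun ⟨M, se⟩ => ?_) fun e => by omega
  · exact absurd (C_t ⟨1, 0, 0, 0, false, false⟩ (h.inj (by
      rw [map_mul, map_mul]; exact c.is_comm.comm _ _))) (by decide)
  · rintro _ ⟨v, a, rfl⟩ g ⟨t, e⟩
    rw [← e]
    by_cases v1 : v = 1
    · rw [e, v1]; simp
    by_cases m : v ∈ sing
    · exact mem_im (sing_V _ (h.dS ((h.cjs zt m).trans ⟨g, mem_top _, e.symm⟩)))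
    obtain ⟨k, -, e'⟩ := (h.cjc zt a v1 m).trans ⟨g, mem_top _, e.symm⟩
    have zV : ι z0 ∈ BG.cj k (V0.map ι) := mem_cj.2 (h.dK zt oz oc ⟨k⁻¹, mem_top _, by group⟩ (mem_C1.2 (by
      rw [show k⁻¹ * ι z0 * k * ι c0 = k⁻¹ * (ι z0 * (k * ι c0 * k⁻¹)) * k by group, e', ← map_mul, ← z0_cen, map_mul,
        ← e']; group)))
    obtain ⟨r, hr, l⟩ := h.hz.cj_sub (((ab_V.map ι).cj k).abel.trans (C_le_C1 zV)) ((map_pig _).cj k)
    rw [← cj_mul] at l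
    have nk : r * k ∈ N[V0.map ι] := mem_N_of_cj_le (genV fun p m => by
      obtain ⟨y, i⟩ := l (mem_cj_conj.2 (mem_im (sing_V p m)))
      exact i ▸ mem_im (sing_V _ (h.dS ((h.cjs zt m).trans ⟨_, mem_top _, i.symm⟩))))
    exact e' ▸ conj_mem ((mul_mem_cancel_left (n r hr)).1 nk) (mem_im c_V)
  · obtain ⟨g, e⟩ := isConj_iff.1 (Inv.se_isConj se h.ordz (h.ord (x := c0) (by decide) (by decide)))
    exact h.nc zt oz oc ⟨g, mem_top _, e⟩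

theorem allV [IsSimpleGroup G] (x2 : x * x = 1) : ∃ y ∈ V0, Cj ⊤ (ι x) (ι y) := by
  by_cases a : x ∈ V0
  · exact ⟨x, a, Cj.refl _ _⟩
  obtain ⟨g, hg, n⟩ := h.exm zt oz oc
  obtain ⟨σ, q⟩ := h.pull ((cj_of_mem_N (h.hz.nQ le_rfl oz hg)).le.trans (map_le Q0))
  have k : ∀ e ∈ E0, e ∉ Z0 → (σ e).a ≠ 0 ∧ (x.a = (σ e).a → ∃ y ∈ V0, Cj ⊤ (ι x) (ι y)) := fun e e1 e2 => by
    obtain ⟨i, s, -, j⟩ := cls (σ e) (q.sq1 (E_Q e1) ((pow_two e).symm.trans (ab_V.pow e (E_V e1))))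
      fun m => n (h.line zt oz oc hg e1 e2 (q.eq e (E_Q e1) ▸ mem_im m))
    obtain ⟨-, s', -, j'⟩ := cls x x2 a
    exact ⟨i, fun m => ⟨e, E_V e1, (h.cj' ⟨s', m ▸ j'⟩).trans ((h.cj' ⟨s, j⟩).symm.trans
      (q.cj (mem_top g) (E_Q e1)).symm)⟩⟩
  have k1 := k w1 (by decide) (by decide)
  have k2 := k w2 (by decide) (by decide)
  have k3 := k (w1 * w2) (by decide) (by decide)
  rw [q.mul _ (by decide) _ (by decide)] at k3
  rcases cover _ _ _ k1.1 k2.1 k3.1 (cls x x2 a).1 with m | m | m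
  exacts [k1.2 m, k2.2 m, k3.2 m]

/-- every point is collinear with a point of the line `V` -/
theorem gq [IsSimpleGroup G] (e : Cj ⊤ (ι z0) a) : ∃ p ∈ sing, a * ι p = ι p * a := by
  have c2 : ι c0 * ι c0 = 1 := by rw [← map_mul]; exact (congrArg ι (by decide)).trans (map_one ι)
  have k : ∀ u, Cj ⊤ (ι z0) u → u * ι c0 = ι c0 * u → u * a = a * u → ∃ p ∈ sing, a * ι p = ι p * a :=
    fun u u1 u2 u3 => by
      obtain ⟨p, -, rfl⟩ := h.dK zt oz oc u1 (mem_C1.2 u2)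
      exact ⟨p, h.dS u1, u3.symm⟩
  rcases HJ.dih (mem_top a) (mem_top (ι c0)) (h.dsq e) c2 with ⟨u, -, -, i⟩ | ⟨w, -, n, w2, wa, wc, -⟩
  · exact (h.nc zt oz oc (e.trans ⟨u, mem_top _, i⟩)).elim
  obtain ⟨x, x2, i⟩ := h.inv_in (mem_top w) w2
  obtain ⟨y, y1, j⟩ := h.allV zt oz oc x2
  by_cases m : y ∈ sing
  · exact k w ((h.cjs zt m).trans (i.trans j).symm) wc wa
  obtain ⟨g, -, l⟩ := (i.trans j).trans (h.cjc zt y1 (by
    rintro rfl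
    obtain ⟨g, -, l⟩ := i.trans j
    exact n (by simpa using l)) m).symm
  have f1 := h.dK zt oz oc (e.trans ⟨g, mem_top _, rfl⟩) (by rw [← l, ← cj_C1]; exact mem_cj_conj.2 (mem_C1'.2 wa))
  obtain ⟨y', -, r, hr, l'⟩ := (h.sub (rg_norm n_V) le_top).inv_in (w := g * ι c0 * g⁻¹)
    (h.NV zt oz oc (by nth_rewrite 1 [← l]; rw [← cj_C1]; exact mem_cj_conj.2 (mem_C1'.2 wc))) (by
      rw [conj_mul, c2]; group)
  have z1 := V_comm (conj_mem (inv_mem hr) (mem_im (ι := ι) z_V)) f1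
  have z2 := congrArg ι (z0_cen y')
  rw [map_mul, map_mul, ← l'] at z2
  refine k ((r * g)⁻¹ * ι z0 * (r * g)⁻¹⁻¹) ⟨_, mem_top _, rfl⟩ ?_ ?_
  · rw [show (r * g)⁻¹ * ι z0 * (r * g)⁻¹⁻¹ * ι c0 = (r * g)⁻¹ * (ι z0 * (r * (g * ι c0 * g⁻¹) * r⁻¹)) * (r * g) by
      group, ← z2]; group
  · rw [show (r * g)⁻¹ * ι z0 * (r * g)⁻¹⁻¹ * a = g⁻¹ * (r⁻¹ * ι z0 * r⁻¹⁻¹ * (g * a * g⁻¹)) * g by group, z1]; group

theorem key (hg : g ∈ C1[ι z0]) (n : ι t0 * (g * ι t0 * g⁻¹) ≠ g * ι t0 * g⁻¹ * ι t0) :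
    (ι t0 * (g * ι t0 * g⁻¹)) ^ 3 = 1 := by
  have e : Cj ⊤ (ι z0) (g * ι t0 * g⁻¹) := zt.trans ⟨g, mem_top _, rfl⟩
  rcases dih2 (h.dsq zt) (h.dsq e) with o | ⟨w, w1, w2, wa, wb, i⟩
  · refine h.hz.cube le_rfl oz hg (fun x a i => by_contra fun m => n (V_comm (mem_im t_V)
      (conj_mem (h.line zt oz oc hg a m i) (mem_im t_V)))) ((pin_compl p2).2 ?_)
    exact o.not_two_dvd_nat
  obtain ⟨k, -, e1, e2⟩ := h.pair2 zt (i.elim zt.trans e.trans) (by rw [mul_assoc, wa]) (by simpa using w1)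
  have e3 : k * w * k⁻¹ = ι c0 := by
    rw [← zt0, map_mul, ← e1]
    nth_rewrite 2 [← e2]
    rw [conj_mul, ← mul_assoc (ι t0), h.dsq zt, one_mul]
  have := V_comm (mem_im z_V) (h.dK zt oz oc (e.trans ⟨k, mem_top _, rfl⟩) (by
    rw [← e3, ← cj_C1]; exact mem_cj_conj.2 (mem_C1'.2 wb)))
  rw [← e1, conj_mul, conj_mul] at this
  exact (n (by simpa using this)).elim

theorem prod [IsSimpleGroup G] (e : Cj ⊤ (ι z0) a) : (ι z0 * a) ^ 2 = 1 ∨ (ι z0 * a) ^ 3 = 1 := by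
  refine or_iff_not_imp_left.2 fun n => ?_
  have n : ι z0 * a ≠ a * ι z0 := fun m => n (by
    rw [pow_two, mul_assoc, ← mul_assoc a, ← m, mul_assoc, h.dsq e, mul_one, h.dsq (Cj.refl _ _)])
  obtain ⟨p, p1, c⟩ := h.gq zt oz oc e
  obtain ⟨g, -, e1, e2⟩ := h.pair2 (h.cjs zt p1) (Cj.refl _ _) (by rw [← map_mul, z0_cen, map_mul])
    fun m => n (m ▸ c.symm)
  have n' : ι t0 * (g * a * g⁻¹) ≠ g * a * g⁻¹ * ι t0 := fun m => n (by
    rw [← e2, conj_mul, conj_mul] at m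
    simpa using m)
  obtain ⟨k, hk, e3⟩ := (h.pair (e.trans ⟨g, mem_top _, rfl⟩) (by
    rw [← e1, ← cj_C1]; exact mem_cj_conj.2 (mem_C1.2 c)) fun m => n' (by
      rw [m, ← map_mul, z0_cen, map_mul])).symm
  have := h.key zt oz oc hk.2 (e3 ▸ n')
  rw [e3, ← e2, conj_mul, conj_pow] at this
  simpa using this

end TU

theorem TU.three [IsSimpleGroup G] (h : TU ι ⊤) : Cfsg.IsThreeTranspositionClass (conjugatesOf (ι z0)) := by
  obtain ⟨oz, oc⟩ := h.O_bot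
  refine ⟨⟨fun d hd => ?_, fun d hd e he => ?_⟩, ⟨_, IsConj.refl _, rfl⟩, ?_⟩
  · obtain ⟨g, rfl⟩ := isConj_iff.1 hd
    exact ((MulAut.conj g).orderOf_eq _).trans h.ordz
  · obtain ⟨g, rfl⟩ := isConj_iff.1 hd
    obtain ⟨k, rfl⟩ := isConj_iff.1 he
    have i : g * ι z0 * g⁻¹ * (k * ι z0 * k⁻¹) = g * (ι z0 * (g⁻¹ * k * ι z0 * (g⁻¹ * k)⁻¹)) * g⁻¹ := by group
    rw [i, conj_pow, conj_pow]
    exact (h.prod h.fus.2 oz oc ⟨g⁻¹ * k, mem_top _, rfl⟩).imp (fun m => by rw [m]; group) fun m => by rw [m]; group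
  · refine (Subgroup.Normal.eq_bot_or_eq_top (H := closure (conjugatesOf (ι z0))) ?_).resolve_left fun e =>
      h.ne_one (show z0 ≠ 1 by decide) (mem_bot.1 (e ▸ subset_closure (IsConj.refl _)))
    rw [show conjugatesOf (ι z0) = Group.conjugatesOfSet {ι z0} by simp [Group.conjugatesOfSet]]
    exact normalClosure_normal

end Cfsg.Agent.U5
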