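import Cfsg.Agent.U5.Cz
import Cfsg.Agent.JS.Cz

/-! # Balance -/

set_option autoImplicit false
set_option linter.unusedVariables false
set_option linter.unusedSectionVars false

namespace Cfsg.Agent.U5
open Cfsg Cfsg.Agent.BG Subgroup PHom
open Cfsg.Agent.JS (Cj)
open Cfsg.Agent.S3F (p2 SCl)
open Cfsg.Agent.GF (Lx Pr Cp Tr bar ih_all)
open Cfsg.Agent.G75 (Q Q_le Q_odd)

universe u

variable {G : Type u} [Group G] [Finite G] {ι : Su →* G} {H K P R X Y : Subgroup G} {A B : Subgroup Su}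
  {x y : Su} {a b g w : G}

theorem Bal.cj (h : Bal b) (g : G) : Bal (g * b * g⁻¹) := fun a ha a2 X od l n => by
  have e : BG.cj g⁻¹ (C1[a] ⊓ C1[g * b * g⁻¹]) = C1[g⁻¹ * a * g⁻¹⁻¹] ⊓ C1[b] := by
    rw [cj_inf, cj_C1, cj_C1]; congr 2; group
  rw [← cj_Q, ← cj_le_cj (g := g⁻¹), cj_inv_cj]
  refine h (g⁻¹ * a * g⁻¹⁻¹) (mem_C1.2 ?_) (by rw [conj_mul, a2]; group) _ (od.cj _) (e ▸ cj_mono _ l)
    (e ▸ norm_cj.2 n)
  rw [show g⁻¹ * a * g⁻¹⁻¹ * b = g⁻¹ * (a * (g * b * g⁻¹)) * g by group, mem_C1.1 ha]; group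

/-- the `A × B` lemma -/
theorem axb {U : Subgroup G} (u : PiG {2} U) (p : PiG {2} P) (od : PiG {2}ᶜ X) (n1 : P ≤ N[U]) (n2 : X ≤ N[U])
    (c : P ≤ C[X]) (n : U ⊓ C[P] ≤ N[X]) : X ≤ C[U] :=
  pq_lemma (u.sup_l p n1).nil le_sup_right le_sup_left c (u.coprime od).symm n1 n2
    ((u.of_le inf_le_left).cent od n (normI n2 (normC (cents_norm (cent_symm c)))))

theorem TU.pz' (h : TU ι H) (c : H ≤ C1[ι z0]) (o : O[{2}ᶜ](H) = ⊥) (l : X ≤ H) (od : PiG {2}ᶜ X)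
    (cx : X ≤ C1[ι x]) (n : (Q0 ⊓ C1[x]).map ι ≤ N[X]) : X = ⊥ := by
  have nQ := h.nQ c o
  have k : X ≤ C[Q0.map ι] := axb (P := zpowers (ι x)) (map_pig _) ((rg_pig ι).of_le (zpowers_le.2 (mem_rg x))) od
    (zpowers_le.2 (nQ (h.mem x))) (l.trans nQ) (zpowers_le.2 (le_C1_iff.1 cx)) (le_trans (by
      rintro _ ⟨⟨y, a, rfl⟩, b⟩
      rw [C_zpowers] at b
      exact mem_im ⟨a, mem_C1.2 (h.inj (by rw [map_mul, map_mul]; exact mem_C1.1 b))⟩) n)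
  exact ((map_pig Z0).of_le ((le_inf l k).trans (h.cQ c o))).eq_bot od

theorem three_sing : ∀ x ∈ sing, ∀ y ∈ sing, y ≠ z0 → x * (z0 * y) ∈ sing → x = z0 ∨ x = y := by decide +kernel
theorem tc : ι t0 = ι z0 * ι c0 := by rw [← map_mul]; exact congrArg ι (by decide)
theorem CU : C[U0.map ι] = C1[ι t0] ⊓ C1[ι z0] := by
  refine le_antisymm (le_inf (C_le_C1 (mem_im (by decide))) (C_le_C1 (mem_im (by decide)))) (cent_symm ?_)
  have a : ι t0 ∈ C[C1[ι t0] ⊓ C1[ι z0]] := le_C1_iff.1 inf_le_left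
  have b : ι z0 ∈ C[C1[ι t0] ⊓ C1[ι z0]] := le_C1_iff.1 inf_le_right
  rintro _ ⟨x, i, rfl⟩
  rcases (mem_U0 x).1 i with rfl | rfl | rfl | rfl
  exacts [map_one ι ▸ one_mem _, b, a, zt0 ▸ map_mul ι z0 t0 ▸ mul_mem b a]
theorem CU_c : C[U0.map ι] ≤ C1[ι c0] := C_le_C1 (mem_im (by decide))
theorem U_c : U0.map ι ≤ C1[ι c0] := ((ab_V.of_le U_V).map ι).abel.trans CU_c

namespace TU
variable (h : TU ι ⊤)
include h

theorem hz : TU ι C1[ι z0] := h.sub rg_cen le_top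

theorem pz (l : X ≤ C1[ι z0]) (od : PiG {2}ᶜ X) (c : X ≤ C1[ι x])
    (n : (Q0 ⊓ C1[x]).map ι ≤ N[X ⊔ Q (ι z0)]) : X ≤ Q (ι z0) := by
  have d : C1[ι z0] ≤ (quo (Q (ι z0))).dom := O_norm _ _
  refine (quo_bot_iff (l.trans d)).1 ((h.hz.push d (by rw [quo_ker]; exact O_pig _ _)).pz' (x := x) ?_ (O_quo_O _ _)
    (im_mono l) (od.im _) ?_ ?_)
  · rw [push_app]; exact im_C1 (d (h.hz.mem _)) le_rfl
  · rw [push_app]; exact im_C1 (d (h.hz.mem _)) c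
  · rw [push_map, ← im_sup_ker (l.trans d), quo_ker]; exact im_norm n

theorem balz : Bal (ι z0) := fun a ha a2 X od l n => by
  obtain ⟨x, -, g, hg, e⟩ := h.hz.inv_in ha a2
  have k : BG.cj g (C1[a] ⊓ C1[ι z0]) = C1[ι x] ⊓ C1[ι z0] := by rw [cj_inf, cj_C1, cj_C1, e, cz_fix hg]
  have l' : BG.cj g X ≤ C1[ι x] ⊓ C1[ι z0] := k ▸ cj_mono _ l
  rw [← cj_le_cj (g := g), cj_Q, cz_fix hg]
  refine h.pz (l'.trans inf_le_right) (od.cj _) (l'.trans inf_le_left) (normY (le_trans ?_ (k ▸ norm_cj.2 n))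
    ((h.hz.mle _).trans (O_norm _ _)))
  exact le_inf ((map_mono inf_le_right).trans (map_C1 x)) (h.hz.mle _)

variable (zt : Cj ⊤ (ι z0) (ι t0))
include zt

/-- a conjugate of `z` in `C(c)` commuting with `z` -/
theorem zt_of (hg : g ∈ C1[ι c0]) (c : g * ι z0 * g⁻¹ ∈ C1[ι z0]) :
    g * ι z0 * g⁻¹ = ι z0 ∨ g * ι z0 * g⁻¹ = ι t0 := by
  have mc : g * ι z0 * g⁻¹ ∈ C1[ι c0] := conj_mem (normG _ hg) (U_c (mem_im (by decide)))
  have ct : ι t0 ∈ C1[g * ι z0 * g⁻¹] := tc (ι := ι) ▸ mul_mem (mem_C1.2 (mem_C1.1 c).symm) (mem_C1.2 (mem_C1.1 mc).symm)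
  obtain ⟨k, hk, l⟩ := h.hz.cj_sub (X := zpowers (g * ι z0 * g⁻¹) ⊔ zpowers (ι t0))
    (sup_le (zpowers_le.2 c) (zpowers_le.2 (h.hz.mem _))) (PiG.sup_l
      (pig_zpowers.2 (pie_conj.2 ((rg_pig ι).elt (mem_rg _)))) (pig_zpowers.2 ((rg_pig ι).elt (mem_rg _)))
      (norm_zpowers (zpowers_le.2 ct)))
  obtain ⟨x, i⟩ := l (mem_cj_conj.2 (mem_sup_left (mem_zpowers _)))
  obtain ⟨y, j⟩ := l (mem_cj_conj.2 (mem_sup_right (mem_zpowers _)))
  have ez := cz_fix hk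
  refine (three_sing x (h.dS ⟨k * g, mem_top _, by rw [i]; group⟩) y (h.dS (zt.trans ⟨k, mem_top _, j.symm⟩))
    (fun m => ?_) (h.dS (zt.trans ⟨k * g, mem_top _, ?_⟩))).imp (fun m => ?_) fun m => ?_
  · rw [m, ← ez] at j
    exact absurd (h.inj (show ι z0 = ι t0 by simpa using j)) (by decide)
  · rw [map_mul, map_mul, i, j, ← ez, conj_mul, conj_mul, ez, ← map_mul, zt0, tc, ← cz_fix hg]
    rw [cz_fix hg]
    nth_rewrite 2 [← cz_fix hg]
    group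
  · rw [m] at i
    simpa using i.symm.trans ez.symm
  · rw [m, j] at i
    simpa using i.symm

/-- the `Z*`-theorem in `C(c) / ⟨c⟩` -/
theorem Cc : C1[ι c0] ≤ Q (ι c0) ⊔ C1[ι c0] ⊓ N[U0.map ι] := by
  have cR : C1[ι c0] ≤ C[zpowers (ι c0)] := (C_zpowers _).ge
  have d : C1[ι c0] ≤ (quo (zpowers (ι c0))).dom := cents_norm cR
  have kr := quo_ker (zpowers (ι c0))
  have pc : PiG {2} (zpowers (ι c0)) := pig_zpowers.2 ((rg_pig ι).elt (mem_rg _))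
  have hO := JS.Cz.Ohat pc cR (zpowers_le.2 (mem_C1_self _))
  have cU : zpowers (ι c0) ≤ U0.map ι := zpowers_le.2 (mem_im (by decide))
  have mz : ι z0 ∈ C1[ι c0] := U_c (mem_im (by decide))
  have mc : ∀ w ∈ zpowers (ι c0), w = 1 ∨ w = ι c0 := fun w => SE.mem_zp0 (h.ord (by decide) (by decide))
  generalize hφ : quo (zpowers (ι c0)) = φ at d kr hO
  have UM : U0.map ι ≤ C1[ι c0] ⊓ N[U0.map ι] := le_inf U_c (normG _)
  have MH : Q (ι c0) ⊔ C1[ι c0] ⊓ N[U0.map ι] ≤ C1[ι c0] := sup_le (Q_le _) inf_le_left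
  have i : ZD.Isn (φ.im C1[ι c0]) (φ.app (ι z0)) := by
    refine ZD.isn_of_iso (orderOf_of_pow p2 (by
      rw [← app_pow (d mz), pow_two, ← map_mul, show z0 * z0 = 1 by decide, map_one, app_one]) fun e => ?_)
      (app_mem_im mz (d mz)) fun g' a' b => ?_
    · rcases mc _ (kr ▸ mem_ker.2 ⟨d mz, e⟩) with m | m
      · exact h.ne_one (by decide) m
      · exact absurd (h.inj m) (by decide)
    obtain ⟨g, a, rfl⟩ := (mem_im' d).1 a'
    have mw := conj_mem (normG _ a) mz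
    rw [← app_conj (d a) (d mz)] at b ⊢
    rw [← app_mul (d mz) (d mw), ← app_mul (d mw) (d mz), app_eq_iff (d (mul_mem mz mw)) (d (mul_mem mw mz)), kr] at b
    have p1 : PiG {2} (zpowers (ι c0) ⊔ zpowers (ι z0)) :=
      pc.sup_l (pig_zpowers.2 ((rg_pig ι).elt (mem_rg _))) (norm_zpowers (zpowers_le.2 mz))
    have cm := h.comm2 (X := (zpowers (ι c0) ⊔ zpowers (ι z0)) ⊔ zpowers (g * ι z0 * g⁻¹)) le_top
      (p1.sup_l (pig_zpowers.2 (pie_conj.2 ((rg_pig ι).elt (mem_rg _)))) (zpowers_le.2 (inv_mem_iff.1 (mem_N_of_cj_le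
        (by
          rw [cj_sup, cj_of_mem_N (norm_zpowers le_rfl (inv_mem mw)), cj_zpowers]
          refine sup_le le_sup_left (zpowers_le.2 ?_)
          convert mul_mem (mem_sup_right (mem_zpowers (ι z0))) (mem_sup_left (inv_mem b)) using 1
          group)))))
      (mem_sup_right (mem_zpowers _)) (mem_sup_left (mem_sup_right (mem_zpowers _))) ⟨g, mem_top _, rfl⟩ (Cj.refl _ _)
    rcases h.zt_of zt a (mem_C1.2 cm) with m | m <;> rw [m]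
    rw [eq_comm, app_eq_iff (d mz) (d (U_c (mem_im (by decide)))), kr, tc, inv_mul_cancel_left]
    exact mem_zpowers _
  refine le_of_im_le d (MH.trans d) (kr.le.trans (cU.trans (UM.trans le_sup_right))) (i.le_of ?_ ?_)
  · exact (im_pre (O_le _ _)).ge.trans (im_mono (hO.trans (sup_le le_sup_left (cU.trans (UM.trans le_sup_right)))))
  · rintro _ ⟨a', b⟩
    obtain ⟨g, a, rfl⟩ := (mem_im' d).1 a'
    refine app_mem_im (mem_sup_right ⟨a, mem_N_of ?_⟩) (d a)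
    have k := cz_fix b
    rw [← app_conj (d a) (d mz), eq_comm, app_eq_iff (d mz) (d (conj_mem (normG _ a) mz)), kr] at k
    have k1 : g * ι z0 * g⁻¹ ∈ U0.map ι := (mul_mem_cancel_left (inv_mem (mem_im (by decide)))).1 (cU k)
    have k2 : g * ι c0 * g⁻¹ ∈ U0.map ι := (cz_fix a).symm ▸ mem_im (by decide)
    rintro _ ⟨x, i, rfl⟩
    rcases (mem_U0 x).1 i with rfl | rfl | rfl | rfl
    exacts [by simp, k1, by rw [tc, ← conj_mul]; exact mul_mem k1 k2, k2]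

theorem sqK (hg : g ∈ C1[ι c0] ⊓ N[U0.map ι]) : g ^ 2 ∈ C[U0.map ι] := by
  have ec := cz_fix hg.1
  have k : g ^ 2 ∈ C1[ι z0] := by
    rcases h.zt_of zt hg.1 ((((ab_V.of_le U_V).map ι).abel.trans (CU.le.trans inf_le_right))
      (conj_mem hg.2 (mem_im (by decide)))) with e | e
    · exact pow_mem (mem_C1.2 (mul_inv_eq_iff_eq_mul.1 e)) _
    · refine mem_C1.2 (mul_inv_eq_iff_eq_mul.1 ?_)
      rw [show g ^ 2 * ι z0 * (g ^ 2)⁻¹ = g * (g * ι z0 * g⁻¹) * g⁻¹ by rw [pow_two]; group, e, tc, ← conj_mul, e, ec, ← map_mul]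
      exact congrArg ι (by decide)
  rw [CU]
  exact ⟨mem_C1.2 (mem_C1.1 (show ι t0 ∈ C1[g ^ 2] from tc (ι := ι) ▸ mul_mem (mem_C1.2 (mem_C1.1 k).symm)
    (mem_C1.2 (mem_C1.1 (pow_mem hg.1 2)).symm))).symm, k⟩

theorem balc' {G' : Type u} [Group G'] [Finite G'] (φ : PHom G G') (d : C1[ι c0] ≤ φ.dom) (kr : φ.ker = Q (ι c0))
    (o : O[{2}ᶜ](φ.im C1[ι c0]) = ⊥) : Bal (ι c0) := fun a ha a2 X od l n => by
  have ko : PiG {2}ᶜ φ.ker := by rw [kr]; exact Q_odd _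
  have kM : φ.ker ≤ C1[ι c0] := by rw [kr]; exact Q_le _
  have kN : C1[ι c0] ≤ N[φ.ker] := by rw [kr]; exact O_norm _ _
  have XM : X ≤ C1[ι c0] := l.trans inf_le_right
  have dK : C[U0.map ι] ≤ φ.dom := CU_c.trans d
  have ic : ∀ A ≤ C1[ι c0], PiG {2} A → φ.im (C1[ι c0] ⊓ C[A]) = φ.im C1[ι c0] ⊓ C[φ.im A] := fun A l p =>
    im_IC' (l.trans d) d kM (p.coprime ko) (.inl p.sol)
  have eM : φ.im C1[ι c0] ≤ φ.im (C1[ι c0] ⊓ N[U0.map ι]) := by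
    refine (im_mono (h.Cc zt)).trans ?_
    rw [sup_comm, ← kr, im_sup_ker (inf_le_left.trans d)]
  have nK : φ.im C1[ι c0] ≤ N[φ.im C[U0.map ι]] := eM.trans (im_norm (normC inf_le_right))
  have XK : φ.im X ≤ φ.im C[U0.map ι] := fun y hy => by
    obtain ⟨g, a, rfl⟩ := (mem_im' (inf_le_left.trans d)).1 (eM (im_mono XM hy))
    have k := app_mem_im (φ := φ) (h.sqK zt a) (dK (h.sqK zt a))
    rw [app_pow (d a.1)] at k
    exact zpowers_le.2 k (mem_zpowers_pow_iff.2 ((pin_compl_cop p2).1 ((od.im φ).elt hy)).symm)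
  have pa : PiG {2} (zpowers a) := pig_zpowers.2 (pie_of_pow p2 ((pow_two a).trans a2))
  have XP : φ.im X ≤ C[O[{2}](φ.im C[U0.map ι])] := by
    refine axb (P := φ.im (zpowers a)) (O_pig _ _) (pa.im _) (od.im _)
      ((im_mono (zpowers_le.2 ha)).trans (normO _ nK)) (XK.trans (O_norm _ _))
      (im_cent (zpowers_le.2 (le_C1_iff.1 (l.trans inf_le_left)))) ?_
    refine (inf_le_inf_right _ ((O_le _ _).trans (im_mono CU_c))).trans ?_
    rw [← ic _ (zpowers_le.2 ha) pa, C_zpowers, inf_comm]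
    exact im_norm n
  have OK : O[{2}ᶜ](C[U0.map ι]) ≤ φ.ker :=
    (im_eq_bot_iff ((O_le _ _).trans dK)).1 (le_bot_iff.1 ((im_O_le _ _).trans
      ((O_le_of_normal _ (im_mono CU_c) nK).trans o.le)))
  have Kz : C[U0.map ι] ≤ C1[ι z0] := CU.le.trans inf_le_right
  have d' : C1[ι z0] ≤ N[Q (ι z0)] := O_norm _ _
  have zK : C[U0.map ι] ⊓ Q (ι z0) ≤ φ.ker :=
    (le_O inf_le_left (normI (normG _) (Kz.trans d')) ((Q_odd _).of_le inf_le_right)).trans OK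
  have nQ : C1[ι z0] ≤ N[Q0.map ι ⊔ Q (ι z0)] := (h.hz.normQ le_rfl).trans (sup_le (le_sup_right.trans (normG _))
    (normY inf_le_right (inf_le_left.trans d')))
  have NP : φ.im (C[U0.map ι] ⊓ (Q0.map ι ⊔ Q (ι z0))) ≤ O[{2}](φ.im C[U0.map ι]) := by
    refine le_O (im_mono inf_le_left) (im_norm (normI (normG _) (Kz.trans nQ))) (pig_of_elts fun y hy => ?_)
    obtain ⟨y, m, rfl⟩ := (mem_im' (inf_le_left.trans dK)).1 hy
    obtain ⟨u, u1, v, v1, rfl⟩ := (mem_sup_r ((h.hz.mle _).trans d')).1 m.2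
    obtain ⟨k, e⟩ := ((map_pig (ι := ι) Q0).elt u1).pow_eq_one p2
    have e1 : (u * v) ^ 2 ^ k ∈ Q (ι z0) := by
      have du : u ∈ (quo (Q (ι z0))).dom := d' (h.hz.mle _ u1)
      have dv : v ∈ (quo (Q (ι z0))).dom := normG _ v1
      rw [← quo_ker (Q (ι z0))] at v1 ⊢
      refine mem_ker.2 ⟨pow_mem (mul_mem du dv) _, ?_⟩
      rw [app_pow (mul_mem du dv), app_mul du dv, (mem_ker.1 v1).2, mul_one, ← app_pow du, e, app_one]
    have e' := (mem_ker.1 (zK ⟨pow_mem m.1 _, e1⟩)).2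
    rw [app_pow (dK m.1)] at e'
    exact fun q a b => pin_pow_self p2 k q a (b.trans (orderOf_dvd_of_pow_eq_one e'))
  have XM' : X ⊔ φ.ker ≤ C1[ι c0] := sup_le XM kM
  have e1 : φ.im (C[U0.map ι] ⊓ (X ⊔ φ.ker)) = φ.im X := by
    rw [im_inf (XM'.trans d) le_sup_right, im_sup_ker (XM.trans d), inf_eq_right.2 XK]
  have pK : (Q0 ⊓ C1[t0]).map ι ≤ C[U0.map ι] := by
    rw [CU]; exact le_inf ((map_mono inf_le_right).trans (map_C1 _)) (h.hz.mle _)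
  have k : C[U0.map ι] ⊓ (X ⊔ φ.ker) ≤ Q (ι z0) :=
    h.pz (x := t0) (inf_le_left.trans Kz) ((od.sup_r ko (XM.trans kN)).of_le inf_le_right)
      (inf_le_left.trans (CU.le.trans inf_le_left)) (normY (normI (normsG pK) (norm_sup_ker (pK.trans dK)
        (XM.trans d) (cents_norm (((im_mono (le_inf pK ((map_mono inf_le_left).trans le_sup_left))).trans NP).trans
          (cent_symm XP))))) ((h.hz.mle _).trans d'))
  rw [← kr, ← im_eq_bot_iff (XM.trans d), ← e1, im_eq_bot_iff (inf_le_left.trans dK)]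
  exact (le_inf inf_le_left k).trans zK

theorem balc : Bal (ι c0) := h.balc' zt (quo (Q (ι c0))) (O_norm _ _) (quo_ker _) (O_quo_O _ _)

theorem balV (a : x ∈ V0) (n : x ≠ 1) (e : Cj ⊤ (ι x) b) : Bal b := by
  by_cases m : x ∈ sing
  · obtain ⟨g, -, rfl⟩ := (h.cjs zt m).trans e
    exact h.balz.cj g
  · obtain ⟨g, -, rfl⟩ := (h.cjc zt a n m).trans e
    exact (h.balc zt).cj g

end TU

end Cfsg.Agent.U5
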