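import Cfsg.Agent.U5.Fa

/-! # Fusion of involutions -/

set_option autoImplicit false
set_option linter.unusedVariables false
set_option linter.unusedSectionVars false

namespace Cfsg.Agent.U5
open Cfsg Cfsg.Agent.BG Subgroup PHom
open Cfsg.Agent.JS (Cj)
open Cfsg.Agent.S3F (p2 SCl)
open Cfsg.Agent.GF (Lx Pr Cp Tr bar ih_all)
open Cfsg.Agent.G75 (Q Q_le Q_odd)

universe u

variable {G : Type u} [Group G] [Finite G] {ι : Su →* G} {H K P R X Y : Subgroup G} {A B : Subgroup Su}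
  {x y : Su} {a b g w : G}

theorem R_c (a : x ∈ V0) : R0.map ι ≤ C1[ι x] :=
  (map_mono fun s b => mem_C1.2 (R_V x a s b)).trans (map_C1 x)
theorem cj_mem {z : G} (hz : z ∈ H) (e : Cj H z w) : w ∈ H := by
  obtain ⟨g, a, rfl⟩ := e
  exact mul_mem (mul_mem a hz) (inv_mem a)
theorem cz_fix {z : G} (c : g ∈ C1[z]) : g * z * g⁻¹ = z := mul_inv_eq_iff_eq_mul.2 (mem_C1.1 c)

namespace TU
variable (h : TU ι H)
include h

/-- an involution of `S` centralised by more than `64` elements lies in `V` -/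
theorem big (e : x * x = 1) (l : X ≤ ι.range) (c : X ≤ C1[ι x]) (n : 64 < #X) : x ∈ V0 := by_contra fun a => by
  have := card_le ((le_inf l c).trans (h.inf_C1 x).le)
  rw [h.card, cardC e a] at this
  omega

/-- `R` is weakly closed -/
theorem normR (l : BG.cj g (R0.map ι) ≤ ι.range) : g ∈ N[R0.map ι] := by
  obtain ⟨σ, q⟩ := h.pull l
  have k : BG.cj g (V0.map ι) ≤ V0.map ι := fun a ha => by
    obtain ⟨_, ⟨x, b, rfl⟩, rfl⟩ := exists_of_mem_cj ha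
    rw [← q.eq x (V_R b)]
    refine mem_im (h.big (q.sq1 (V_R b) ((pow_two x).symm.trans (ab_V.pow x b))) l ?_ (by
      rw [card_cj, h.card, card_R0]; omega))
    rw [q.eq x (V_R b), ← cj_C1]; exact cj_mono _ (R_c b)
  obtain ⟨_, ⟨x, b, rfl⟩, e⟩ := exists_of_mem_cj ((cj_of_mem_N (mem_N_of_cj_le k)).ge (mem_im t_V))
  refine mem_N_of_cj_le ((le_inf l (show _ ≤ C1[ι t0] from ?_)).trans ((h.inf_C1 _).le.trans
    (map_mono fun s a => C_t s (mem_C1.1 a))))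
  rw [e, ← cj_C1]; exact cj_mono _ (R_c b)

theorem ZR : Z[R0.map ι] = V0.map ι := by
  refine le_antisymm ?_ (le_inf (map_mono V_R) (cent_symm (cent_map (U5.ZR ▸ cent_symm inf_le_right) ι)))
  rintro _ ⟨⟨x, a, rfl⟩, b⟩
  exact mem_im (ZR' x a fun y _ c => h.inj (by rw [map_mul, map_mul]; exact mem_C.1 b _ (mem_im c)))

theorem NR_NV : N[R0.map ι] ≤ N[V0.map ι] := h.ZR ▸ normZ le_rfl

/-- `N(R)` controls fusion in `V` -/
theorem ctrl (a : x ∈ V0) (b : y ∈ V0) (e : Cj H (ι x) (ι y)) : Cj (H ⊓ N[R0.map ι]) (ι x) (ι y) := by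
  obtain ⟨g, hg, e⟩ := e
  obtain ⟨T, s, l⟩ := syl_superset p2 (le_inf (h.mle R0) (R_c b)) (map_pig R0)
  obtain ⟨c, hc, l'⟩ := s.cj_sub p2 (U := BG.cj g (R0.map ι)) (le_inf (cj_le_of_mem (h.mle _) (normG _ hg))
    (by rw [← e, ← cj_C1]; exact cj_mono _ (R_c a))) ((map_pig _).cj _)
  obtain ⟨k, hk, l''⟩ := h.cj_sub (s.le.trans inf_le_left) s.pi
  have n1 := h.normR ((cj_mono k l).trans l'')
  have n2 := h.normR (g := k * (c * g)) (by rw [cj_mul, cj_mul]; exact (cj_mono k l').trans l'')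
  refine ⟨c * g, ⟨mul_mem hc.1 hg, (mul_mem_cancel_left n1).1 n2⟩, ?_⟩
  rw [show c * g * ι x * (c * g)⁻¹ = c * (g * ι x * g⁻¹) * c⁻¹ by group, e, cz_fix hc.2]

theorem sing_cj (a : x ∈ sing) (b : y ∈ V0) (e : Cj H (ι x) (ι y)) : y ∈ sing := by
  obtain ⟨g, hg, e⟩ := h.ctrl (sing_V x a) b e
  obtain ⟨x1, -, s, s1, rfl⟩ := sing_sq x a
  obtain ⟨r, r1, k⟩ := conj_mem hg.2 (mem_im (ι := ι) s1)
  obtain rfl : y = r * r := h.inj (by rw [← e, map_mul, map_mul, k, conj_mul])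
  refine (sq_sing r r1).resolve_left fun i => h.ne_one x1 ?_
  rw [i, map_one] at e
  simpa using e

/-- the conjugates of `z` in `S` -/
theorem dS (e : Cj H (ι z0) (ι x)) : x ∈ sing := by
  by_cases a : x ∈ V0
  · exact h.sing_cj (by decide) a e
  exfalso
  have x2 : x * x = 1 := by
    obtain ⟨g, -, e⟩ := e
    exact h.inj (by rw [map_mul, map_one]; exact cjsq e (by decide))
  obtain ⟨g, -, d, l⟩ := h.toZ e.symm
  obtain ⟨σ, q⟩ := h.pull l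
  obtain ⟨i, -, i2, i3, ⟨j, -, j2, j3, ij⟩, u, -, u2, u3, ui⟩ := q8 x x2 a
  have mz : z0 ∈ C1[x] := mem_C1.2 (z0_cen x).symm
  have mi := mem_C1.2 i3
  have mj := mem_C1.2 j3
  have mu := mem_C1.2 u3
  have s : σ x = z0 := h.inj ((q.eq x (mem_C1_self x)).trans d)
  have zQ : σ z0 ∈ Q0 := by
    have k := congrArg (fun y => pr (σ y)) ui
    simp only [q.mul _ mu _ mi, q.mul _ (mul_mem mi mu) _ mz, q.mul _ mi _ mu, pr_hom] at k
    rcases pr_sq (σ u) (by rw [q.sq1 mu u2]; exact one_mem _) with m | m <;> rw [m] at k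
    · exact (mem_Q0 _).2 (by simpa using k.symm)
    · rw [pr_t] at k; exact (mem_Q0 _).2 (by simpa using k.symm)
  have k : ∀ y ∈ C1[x], y * y = z0 → pr (σ y) = t0 := fun y m y2 =>
    (pr_sq _ (by rw [q.sq m y2]; exact zQ)).resolve_left fun n => by
      have := sqQ _ ((mem_Q0 _).2 n)
      rw [q.sq m y2, mem_Z0] at this
      exact this.elim (q.ne1 mz (by decide)) fun n =>
        q.ne mz (mem_C1_self x) (fun n => a (n ▸ z_V)) (n.trans s.symm)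
  have := k _ (mul_mem mi mj) ij
  rw [q.mul _ mi _ mj, pr_hom, k i mi i2, k j mj j2] at this
  exact absurd this (by decide)

theorem dsq (e : Cj H (ι z0) w) : w * w = 1 := by
  obtain ⟨g, -, e⟩ := e
  exact cjsq e (by decide)

theorem pair (e : Cj H (ι z0) w) (c : w ∈ C1[ι z0]) (n : w ≠ ι z0) : Cj (H ⊓ C1[ι z0]) w (ι t0) := by
  obtain ⟨x, -, k⟩ := h.cz.inv_in ⟨cj_mem (h.mem _) e, c⟩ (h.dsq e)
  refine k.trans (h.cz.cj' (sing_t x (h.dS (e.trans (k.mono inf_le_left))) ?_))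
  rintro rfl
  obtain ⟨g, a, b⟩ := k.symm
  exact n (b.symm.trans (cz_fix a.2))

/-- a commuting pair of conjugates of `z` is conjugate to `(z, t)` -/
theorem pair2 (ea : Cj H (ι z0) a) (eb : Cj H (ι z0) b) (c : a * b = b * a) (n : a ≠ b) :
    ∃ g ∈ H, g * a * g⁻¹ = ι z0 ∧ g * b * g⁻¹ = ι t0 := by
  obtain ⟨k, hk, rfl⟩ := ea
  obtain ⟨m, hm, e⟩ := h.pair (w := k⁻¹ * b * k⁻¹⁻¹) (eb.trans ⟨k⁻¹, inv_mem hk, rfl⟩) (mem_C1.2 (by
    rw [show k⁻¹ * b * k⁻¹⁻¹ * ι z0 = k⁻¹ * (b * (k * ι z0 * k⁻¹)) * k by group, ← c]; group))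
    fun i => n (by rw [← i]; group)
  refine ⟨m * k⁻¹, mul_mem hm.1 (inv_mem hk), ?_, by rw [← e]; group⟩
  rw [show m * k⁻¹ * (k * ι z0 * k⁻¹) * (m * k⁻¹)⁻¹ = m * ι z0 * m⁻¹ by group, cz_fix hm.2]

/-- conjugates of `z` inside a `2`-group commute -/
theorem comm2 (l : X ≤ H) (p : PiG {2} X) (ha : a ∈ X) (hb : b ∈ X) (ea : Cj H (ι z0) a) (eb : Cj H (ι z0) b) :
    a * b = b * a := by
  obtain ⟨g, hg, k⟩ := h.cj_sub l p
  obtain ⟨x, i⟩ := k (mem_cj_conj.2 ha)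
  obtain ⟨y, j⟩ := k (mem_cj_conj.2 hb)
  have := congrArg ι (R_V _ (sing_V _ (h.dS (ea.trans ⟨g, hg, i.symm⟩))) _
    (V_R (sing_V _ (h.dS (eb.trans ⟨g, hg, j.symm⟩)))))
  rw [map_mul, map_mul, i, j, conj_mul, conj_mul] at this
  simpa using this.symm

theorem cjs (zt : Cj H (ι z0) (ι t0)) (a : x ∈ sing) : Cj H (ι z0) (ι x) := by
  by_cases e : x = z0
  · exact e ▸ Cj.refl _ _
  · exact zt.trans (h.cj' (sing_t x a e)).symm

/-- the other involutions of `V` -/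
theorem cjc (zt : Cj H (ι z0) (ι t0)) (a : x ∈ V0) (n : x ≠ 1) (m : x ∉ sing) : Cj H (ι c0) (ι x) := by
  obtain ⟨p, p1, q, q1, pq, rfl⟩ := sing_pr x a n m
  obtain ⟨g, hg, e1, e2⟩ := h.pair2 (h.cjs zt p1) (h.cjs zt q1) (by
    rw [← map_mul, ← map_mul, R_V _ (sing_V _ q1) _ (V_R (sing_V _ p1))]) fun i => pq (h.inj i)
  exact Cj.symm ⟨g, hg, by rw [map_mul, ← conj_mul, e1, e2, ← map_mul, zt0]⟩

/-- the `Z*`-theorem -/
theorem zstar (n : ∀ x, Cj H (ι z0) (ι x) → x = z0) : H ≤ O[{2}ᶜ](H) ⊔ H ⊓ C1[ι z0] := by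
  have i := ZD.isn_of_iso h.ordz (h.mem _) fun g a b => by
    obtain ⟨y, -, c, d, e⟩ := h.cz.inv_in (w := g * ι z0 * g⁻¹)
      ⟨conj_mem (normG _ a) (h.mem _), mem_C1'.2 b⟩ (cjsq rfl (by decide))
    rw [n y (Cj.trans ⟨g, a, rfl⟩ ⟨c, d.1, e⟩)] at e
    calc g * ι z0 * g⁻¹ = c⁻¹ * (c * (g * ι z0 * g⁻¹) * c⁻¹) * c := by group
      _ = ι z0 := by rw [e, mul_assoc, ← mem_C1.1 d.2]; group
  exact i.le_of le_sup_left le_sup_right

end TU

/-- the fusion in a simple group -/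
theorem TU.fus [IsSimpleGroup G] (h : TU ι ⊤) : O[{2}ᶜ]((⊤ : Subgroup G)) = ⊥ ∧ Cj ⊤ (ι z0) (ι t0) := by
  have nz : ∀ N : Subgroup G, ⊤ ≤ N[N] → N = ⊥ ∨ N = ⊤ := fun N n => (normal_iff.2 n).eq_bot_or_eq_top
  have o : O[{2}ᶜ]((⊤ : Subgroup G)) = ⊥ := (nz _ (O_norm _ _)).resolve_right fun e =>
    h.ne_one (show z0 ≠ 1 by decide) (((rg_pig ι).elt (mem_rg z0)).eq_one ((O_pig _ _).elt (e ▸ mem_top _)))
  refine ⟨o, ?_⟩
  by_cases n : ∀ x, Cj ⊤ (ι z0) (ι x) → x = z0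
  · have c := h.zstar n
    rw [o, bot_sup_eq, top_inf_eq] at c
    rcases nz _ (norm_zpowers c) with d | d
    · exact (h.ne_one (show z0 ≠ 1 by decide) (mem_bot.1 (d ▸ mem_zpowers _))).elim
    · have := card_le (h.le.trans d.ge)
      rw [h.card_rg, card_zpowers', h.ordz] at this
      omega
  · push Not at n
    obtain ⟨y, b, c⟩ := n
    exact b.trans (h.cj' (sing_t y (h.dS b) c))

end Cfsg.Agent.U5
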