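import Cfsg.Agent.U5.Def

/-! # Computations in `Su` -/

set_option autoImplicit false
set_option linter.unusedVariables false
set_option synthInstance.maxSize 4096
set_option maxRecDepth 4000

namespace Cfsg.Agent.U5.Cz
open Cfsg Subgroup
open Cfsg.Agent.BG hiding cj
open Cfsg.Agent.JS (F4)
open Cfsg.Agent.JS.F4

variable {x y : Su}

theorem Qx (h : x ∈ Q0) : ∃ a b c d, x = ⟨a, b, c, 0, false, d⟩ := by
  obtain ⟨a, b, c, e, f, d⟩ := x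
  have : (e == 0 && !f) = true := h
  simp only [Bool.and_eq_true, beq_iff_eq, Bool.not_eq_eq_eq_not, Bool.not_true] at this
  exact ⟨a, b, c, d, by rw [this.1, this.2]⟩
theorem allQ {p : Su → Prop} (h : ∀ a b c d, p ⟨a, b, c, 0, false, d⟩) : ∀ x ∈ Q0, p x := fun x i => by
  obtain ⟨a, b, c, d, rfl⟩ := Qx i
  exact h a b c d
def q1 : Su := ⟨1, 0, 0, 0, false, false⟩
def q2 : Su := ⟨w, 0, 0, 0, false, false⟩
def gQ : List Su := [q1, q2, ⟨0, 1, 0, 0, false, false⟩, ⟨0, w, 0, 0, false, false⟩, w1, w2]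
theorem gQ_Q : ∀ s ∈ gQ, s ∈ Q0 := by decide +kernel
theorem d1 : ∀ x ∈ V0, x ∉ Q0 → x * z0 ∈ V0 ∧ (x ∈ sing ↔ x * z0 ∉ sing) := by decide +kernel
theorem d2 : ∀ y ∈ Q0, y * y ∈ Z0 ∧ (y ∉ Z0 → ∃ s ∈ gQ, s * y * s⁻¹ = y * z0) := allQ (by decide +kernel)
theorem cenQ' : ∀ x : Su, (∀ y ∈ gQ, x * y = y * x) → x ∈ Z0 := by decide +kernel
theorem cenQ (x : Su) (h : ∀ y ∈ Q0, x * y = y * x) : x ∈ Z0 := cenQ' x fun y a => h y (gQ_Q y a)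

def hf (a b c a' b' c' : F4) : F4 := a * cj c' + b * cj b' + c * cj a'
def bt (a b c a' b' c' : F4) : Bool := (hf a b c a' b' c').x1
def nn (a b c : F4) : Bool := (hf a b c a b c).x0
theorem cj0 : cj 0 = 0 := rfl
theorem Qmul (a b c a' b' c' : F4) (d d' : Bool) : (⟨a, b, c, 0, false, d⟩ * ⟨a', b', c', 0, false, d'⟩ : Su) =
    ⟨a + a', b + b', c + c', 0, false, xor (xor d d') (hf a b c a' b' c').x0⟩ := by
  have F : ∀ a b c d, Su.FF ⟨a, b, c, 0, false, d⟩ = 0 := fun _ _ _ _ => rfl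
  refine Su.ext rfl ?_ ?_ rfl rfl ?_
  · show b + b' + 0 * a' = _
    ring
  · show c + c' + cj 0 * b' + cj (Su.FF _) * a' = _
    rw [F, cj0]; ring
  · show xor (xor d d') (Su.cD a b c 0 (Su.FF _) a' b' c').x0 = _
    rw [F, show Su.cD a b c 0 0 a' b' c' = hf a b c a' b' c' by simp only [Su.cD, hf, cj0]; ring]
theorem hf_sw (a b c a' b' c' : F4) : hf a' b' c' a b c = cj (hf a b c a' b' c') := by
  simp only [hf, cj_add, cj_mul, cj_cj]; ring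
theorem Qc (hx : x ∈ Q0) (hy : y ∈ Q0) : x * y = y * x * (if bt x.a x.b x.c y.a y.b y.c then z0 else 1) := by
  obtain ⟨a, b, c, d, rfl⟩ := Qx hx
  obtain ⟨a', b', c', d', rfl⟩ := Qx hy
  have k : ∀ t : Bool, (if t then z0 else 1) = (⟨0, 0, 0, 0, false, t⟩ : Su) := by decide
  rw [k, Qmul, Qmul, Qmul, hf_sw a b c, bt, show ∀ a b c, hf a b c 0 0 0 = 0 by simp [hf, cj0], add_zero, add_zero,
    add_zero, add_comm a, add_comm b, add_comm c]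
  generalize hf a b c a' b' c' = u
  congr 1
  clear hx hy
  revert u d d'; decide
theorem d3 (y : Su) (hy : y ∈ Q0) (x : Su) (hx : x ∈ Q0) : x * y = y * x ∨ x * y = y * x * z0 := by
  rw [Qc hx hy]; cases bt x.a x.b x.c y.a y.b y.c <;> simp
theorem Qb (hx : x ∈ Q0) (hy : y ∈ Q0) (e : x * y = y * x) : bt x.a x.b x.c y.a y.b y.c = false := by
  have := Qc hx hy
  rw [e, left_eq_mul] at this
  revert this; cases bt x.a x.b x.c y.a y.b y.c <;> decide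
theorem Qn : ∀ x ∈ Q0, x * x = z0 → nn x.a x.b x.c = true := allQ (by decide +kernel)
theorem Qn2 (hx : x ∈ Q0) (hy : y ∈ Q0) (e : x * y * (x * y) = z0) : nn (x.a + y.a) (x.b + y.b) (x.c + y.c) = true := by
  have := Qn _ (mul_mem hx hy) e
  obtain ⟨a, b, c, d, rfl⟩ := Qx hx
  obtain ⟨a', b', c', d', rfl⟩ := Qx hy
  rwa [Qmul] at this
theorem tc : ∀ x ∈ Q0, (t0 * x * t0⁻¹).a = x.a ∧ (t0 * x * t0⁻¹).b = x.b ∧ (t0 * x * t0⁻¹).c = x.c + x.a :=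
  allQ (by decide +kernel)
theorem sc : ∀ x ∈ Q0, (s1 * x * s1⁻¹).a = x.a ∧ (s1 * x * s1⁻¹).b = x.b + x.a ∧
    (s1 * x * s1⁻¹).c = x.c + x.b + (w + 1) * x.a :=
  allQ (by decide +kernel)
theorem ct (hx : x ∈ Q0) (hy : y ∈ Q0) (e : t0 * x * t0⁻¹ * y = y * (t0 * x * t0⁻¹)) :
    bt x.a x.b (x.c + x.a) y.a y.b y.c = false := by
  have := Qb (conj_mem (n_Q (mem_top t0)) hx) hy e
  rwa [(tc x hx).1, (tc x hx).2.1, (tc x hx).2.2] at this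
theorem cs (hx : x ∈ Q0) (hy : y ∈ Q0) (e : s1 * x * s1⁻¹ * y = y * (s1 * x * s1⁻¹)) :
    bt x.a (x.b + x.a) (x.c + x.b + (w + 1) * x.a) y.a y.b y.c = false := by
  have := Qb (conj_mem (n_Q (mem_top s1)) hx) hy e
  rwa [(sc x hx).1, (sc x hx).2.1, (sc x hx).2.2] at this
theorem l1' : ∀ a b c, nn a b c = true → bt a b (c + a) a b c = false →
    bt a (b + a) (c + b + (w + 1) * a) a b c = false → ∀ a' b' c', nn a' b' c' = true →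
    nn (a + a') (b + b') (c + c') = true → bt a b (c + a) a' b' c' = false → bt a' b' (c' + a') a b c = false →
    bt a' b' (c' + a') a' b' c' = false → bt a (b + a) (c + b + (w + 1) * a) a' b' c' = false →
    bt a' (b' + a') (c' + b' + (w + 1) * a') a b c = false →
    bt a' (b' + a') (c' + b' + (w + 1) * a') a' b' c' ≠ false := by decide +kernel
theorem l1 (a : Su) (aQ : a ∈ Q0) (aa : a * a = z0) (b : Su) (bQ : b ∈ Q0) (bb : b * b = z0)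
    (cc : a * b * (a * b) = z0)
    (h1 : t0 * a * t0⁻¹ * a = a * (t0 * a * t0⁻¹)) (h2 : t0 * a * t0⁻¹ * b = b * (t0 * a * t0⁻¹))
    (h3 : t0 * b * t0⁻¹ * a = a * (t0 * b * t0⁻¹)) (h4 : t0 * b * t0⁻¹ * b = b * (t0 * b * t0⁻¹))
    (h5 : s1 * a * s1⁻¹ * a = a * (s1 * a * s1⁻¹)) (h6 : s1 * a * s1⁻¹ * b = b * (s1 * a * s1⁻¹))
    (h7 : s1 * b * s1⁻¹ * a = a * (s1 * b * s1⁻¹)) (h8 : s1 * b * s1⁻¹ * b = b * (s1 * b * s1⁻¹)) : False :=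
  l1' _ _ _ (Qn a aQ aa) (ct aQ aQ h1) (cs aQ aQ h5) _ _ _ (Qn b bQ bb) (Qn2 aQ bQ cc) (ct aQ bQ h2) (ct bQ aQ h3)
    (ct bQ bQ h4) (cs aQ bQ h6) (cs bQ aQ h7) (cs bQ bQ h8)
theorem l2' : ∀ b c, nn 0 b c = true → ∀ b' c', nn 0 b' c' = true → nn (0 + 0) (b + b') (c + c') = true →
    ∀ b'' c'', nn 0 b'' c'' = true → bt 0 b'' c'' 0 b c = false → bt 0 b'' c'' 0 b' c' ≠ false := by decide +kernel
theorem Ra (h : x ∈ R0) : x.a = 0 := by simpa [R0, Su.sub, pR] using h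
theorem l2 (a : Su) (aQ : a ∈ Q0) (aR : a ∈ R0) (aa : a * a = z0) (b : Su) (bQ : b ∈ Q0) (bR : b ∈ R0)
    (bb : b * b = z0) (cc : a * b * (a * b) = z0) (c : Su) (cQ : c ∈ Q0) (cR : c ∈ R0) (h0 : c * c = z0)
    (h1 : c * a = a * c) (h2 : c * b = b * c) : False := by
  have u := Qn2 aQ bQ cc
  have v := Qb cQ aQ h1
  have w := Qb cQ bQ h2
  rw [Ra aR, Ra bR] at u
  rw [Ra aR, Ra cR] at v
  rw [Ra bR, Ra cR] at w
  exact l2' _ _ (Ra aR ▸ Qn a aQ aa) _ _ (Ra bR ▸ Qn b bQ bb) u _ _ (Ra cR ▸ Qn c cQ h0) v w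
theorem l3 : ∀ a ∈ Q0, a * a = z0 → (a * (t0 * a * t0⁻¹) ∈ Z0 → a ∈ R0) ∧
    a * (t0 * a * t0⁻¹) * (a * (t0 * a * t0⁻¹)) ≠ z0 ∧
    (a ∈ R0 → a * (s1 * a * s1⁻¹) ∉ Z0 ∧ a * (s1 * a * s1⁻¹) * (a * (s1 * a * s1⁻¹)) ≠ z0) :=
  allQ (by decide +kernel)
def cm (q s : Su) : Su := q * s * q⁻¹ * s⁻¹
theorem l4 : ∀ a ∈ Q0, cm q1 t0 * a = a * cm q1 t0 → cm q2 t0 * a = a * cm q2 t0 → a ∈ R0 := allQ (by decide +kernel)
theorem l5 : cm q1 s1 ∈ Q0 ∧ cm q1 s1 ∈ R0 ∧ cm q1 s1 * cm q1 s1 = z0 := by decide +kernel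
theorem l6 : (s1 * s1)⁻¹ * t0 ∈ Q0 := by decide +kernel

def lc : List Su := [⟨0, 0, 0, 0, false, false⟩, ⟨0, 0, 0, 1, false, false⟩, ⟨0, 0, 0, w, false, false⟩,
  ⟨0, 0, 0, w + 1, false, false⟩, ⟨0, 1, 0, 0, true, false⟩, ⟨0, 1, 0, 1, true, false⟩, ⟨0, 1, 0, w, true, false⟩,
  ⟨0, 1, 0, w + 1, true, false⟩, ⟨0, w, 1, 0, false, false⟩, ⟨1, 0, 1, 0, true, false⟩, ⟨1, w, 1, 1, false, false⟩,
  ⟨w + 1, 0, 0, 1, true, false⟩, ⟨0, w, 1, w, false, false⟩, ⟨1, w, 1, w + 1, false, false⟩, ⟨1, 0, 1, w, true, false⟩,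
  ⟨1, 0, 1, w + 1, true, false⟩, ⟨0, 0, w, 0, false, false⟩, ⟨0, 0, w, w, false, false⟩]
/-- the classes of square roots of `z` -/
def rp : List Su := [⟨0, 1, 0, 0, false, false⟩, ⟨0, w, 0, 0, false, false⟩, ⟨0, ⟨true, true⟩, 0, 0, false, false⟩,
  ⟨1, 0, w, 0, false, false⟩, ⟨w, 0, 1, 0, false, false⟩, ⟨⟨true, true⟩, 0, 1, 0, false, false⟩, ⟨0, 1, 0, 0, true, false⟩,
  ⟨0, w, 0, 0, true, false⟩, ⟨0, ⟨true, true⟩, 0, 0, true, false⟩]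
theorem reps : ∀ x, x * x = z0 → ∃ s ∈ lc, s * x * s⁻¹ ∈ rp := by decide +kernel
theorem rp_sq : ∀ x ∈ rp, x * x = z0 := by decide +kernel
theorem d4 : ∀ x ∈ rp, (Su.all.filter (· ∈ C1[x])).length ≤ 128 := by decide +kernel
theorem d5 : ∀ x ∈ rp, x ∉ Q0 → (Su.all.filter (· ∈ C1[x])).length = 128 := by decide +kernel
theorem d5' : ∀ x ∈ rp, x ∉ Q0 → (Su.all.filter fun s => s * x = x * s ∧ s * s ∈ Z0).length = 32 := by decide +kernel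
theorem d6 : ∀ y ∈ rp, y ∈ Q0 → (Su.all.filter fun s => s ∈ Q0 ∧ s * y = y * s).length = 64 := by decide +kernel

end Cfsg.Agent.U5.Cz
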