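import Cfsg.Agent.U5.Bas
import Cfsg.Agent.U5.CzA
import Cfsg.Agent.JS.Cz

/-! # `C(z) = O(C(z)) N(Q)` -/

set_option autoImplicit false
set_option linter.unusedVariables false
set_option linter.unusedSectionVars false

namespace Cfsg.Agent.U5
open Cfsg Cfsg.Agent.BG Subgroup PHom
open Cfsg.Agent.JS (Cj)
open Cfsg.Agent.S3F (p2 SCl)
open Cfsg.Agent.GF (Lx Pr Cp Tr bar ih_all)
open Cfsg.Agent.G75 (Q Q_le Q_odd)

universe u

variable {G : Type u} [Group G] [Finite G] {ι : Su →* G} {H K P R X Y : Subgroup G} {A B : Subgroup Su}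
  {x y : Su} {a b g w : G}

namespace Cz
theorem Z_Q : Z0 ≤ Q0 := Z_E.trans E_Q
theorem zc (h : x ∈ Z0) (y : Su) : y * x = x * y := by
  rcases (mem_Z0 x).1 h with rfl | rfl
  · simp
  · exact z0_cen y
theorem zz : ∀ x ∈ Z0, x * x = 1 := fun x a => by rcases (mem_Z0 x).1 a with rfl | rfl <;> decide
theorem cmZ (a : x ∈ Q0) (b : y ∈ Q0) : x * y * x⁻¹ * y⁻¹ ∈ Z0 := by
  rcases d3 y b x a with e | e <;> rw [e]
  · simpa using one_mem Z0
  · rw [mul_assoc _ z0, ← z0_cen, ← mul_assoc, mul_inv_cancel_right, mul_assoc, ← z0_cen, mul_inv_cancel_left]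
    exact z_Z
theorem bil {a b c : Su} (hc : c ∈ Q0) (ha : a ∈ Q0) (n : c * a ≠ a * c) (hb : b ∈ Q0) (m : c * b ≠ b * c) :
    c * (a * b) = a * b * c := by
  rw [← mul_assoc, (d3 a ha c hc).resolve_left n, mul_assoc _ z0, ← z0_cen, ← mul_assoc, mul_assoc a,
    (d3 b hb c hc).resolve_left m, mul_assoc, mul_assoc, show z0 * z0 = 1 by decide, mul_one, mul_assoc]

theorem cz (c : g ∈ C1[ι z0]) (e : x ∈ Z0) : g * ι x * g⁻¹ = ι x := by
  rcases (mem_Z0 x).1 e with rfl | rfl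
  · simp
  · rw [mem_C1.1 c, mul_inv_cancel_right]
end Cz
open Cz

namespace TU
variable (h : TU ι H) (c : H ≤ C1[ι z0])
include h c

theorem czZ (e : Cj H (ι x) (ι y)) (i : x ∈ Z0) : y = x := by
  obtain ⟨g, a, e⟩ := e
  exact h.inj (e ▸ Cz.cz (c a) i)

theorem czB (y1 : y ∈ Q0) (y2 : y ∈ rp) (x3 : x ∈ rp) (e : Cj H (ι y) (ι x)) : x ∈ Q0 := by
  by_contra x1
  have x2 := rp_sq x x3
  obtain ⟨k, a, e⟩ := e
  obtain ⟨R, s, l⟩ := syl_superset p2 (le_inf (h.mle _) (map_C1 x)) (map_pig C1[x])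
  obtain ⟨g, d, l'⟩ := h.cj_sub (s.le.trans inf_le_left) s.pi
  obtain ⟨t, ht⟩ := l' (mem_cj_conj.2 (l (mem_im (mem_C1_self x))))
  have t2 : t * t = z0 := h.inj (by rw [map_mul, ht, conj_mul, ← map_mul, x2, Cz.cz (c d) z_Z])
  have n : #R ≤ 128 := by
    rw [← card_cj g]
    refine (card_le_of_le ((le_inf l' (show _ ≤ C1[ι t] by
      rw [ht, ← cj_C1]; exact cj_mono _ (s.le.trans inf_le_right))).trans (h.inf_C1 t).le)).trans ?_
    obtain ⟨r, -, i⟩ := reps t t2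
    rw [h.card, ← card_cj r, cj_C1, card_sub]; exact d4 _ i
  have E : C1[x].map ι = R := eq_of_card_le l (by rwa [h.card, card_sub, d5 x x3 x1])
  obtain ⟨m, b, l''⟩ := s.cj_sub p2 (U := BG.cj k ((Q0 ⊓ C1[y]).map ι))
    (le_inf (cj_le_of_mem (h.mle _) (normG _ a)) (by
      rw [← e, ← cj_C1]; exact cj_mono _ ((map_mono inf_le_right).trans (map_C1 y)))) ((map_pig _).cj _)
  rw [← cj_mul, ← E] at l''
  obtain ⟨σ, q⟩ := h.pull (l''.trans (map_le _))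
  have := Nat.card_le_card_of_injective (α := {s // s ∈ Q0 ∧ s * y = y * s})
    (β := {s // s * x = x * s ∧ s * s ∈ Z0}) (fun s => ⟨σ s, by
      have i : s.1 ∈ Q0 ⊓ C1[y] := ⟨s.2.1, mem_C1.2 s.2.2⟩
      refine ⟨mem_C1.1 (h.mem_iff.1 (l'' (q.mem i))), ?_⟩
      have j := (d2 _ s.2.1).1
      rw [q.sq i rfl, h.inj ((q.eq _ (mul_mem i i)).trans (Cz.cz (c (mul_mem b.1 a)) j))]
      exact j⟩)
    fun s t e => Subtype.ext (q.inj _ ⟨s.2.1, mem_C1.2 s.2.2⟩ _ ⟨t.2.1, mem_C1.2 t.2.2⟩ (congrArg Subtype.val e))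
  rw [Su.card_set, Su.card_set, d6 y y2 y1, d5' x x3 x1] at this
  omega

/-- `Q / Z` is strongly closed -/
theorem czQ (y1 : y ∈ Q0) (e : Cj H (ι y) (ι x)) : x ∈ Q0 := by
  obtain ⟨g, a, e'⟩ := id e
  have k : x * x = y * y := h.inj (by rw [map_mul, ← e', conj_mul, ← map_mul, Cz.cz (c a) (d2 y y1).1])
  rcases (mem_Z0 _).1 (d2 y y1).1 with i | i
  swap
  · obtain ⟨r, -, r1⟩ := reps y i
    obtain ⟨s, -, s1⟩ := reps x (k.trans i)
    exact (mem_N.1 (n_Q (mem_top s)) x).2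
      (h.czB c (conj_mem (n_Q (mem_top r)) y1) r1 s1 ((h.cj y r).symm.trans (e.trans (h.cj x s))))
  by_contra n
  have v := (invs x (k.trans i)).resolve_right n
  have m : Cj H (ι x) (ι (x * z0)) := (e.symm.trans (h.cj' (((d2 y y1).2 fun j => n (h.czZ c e j ▸ y1)).imp
    fun _ => And.right))).trans ⟨g, a, by rw [map_mul, map_mul, ← conj_mul, e', Cz.cz (c a) z_Z]⟩
  obtain ⟨v', f⟩ := d1 x v n
  by_cases j : x ∈ sing
  · exact f.1 j (h.sing_cj j v' m)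
  · exact j (h.sing_cj (by_contra fun l => j (f.2 l)) v m.symm)

theorem normQ : H ≤ O[{2}ᶜ](H) ⊔ H ⊓ N[Q0.map ι] := by
  have cZ : H ≤ C[Z0.map ι] := by rwa [map_Z, C_zpowers]
  have d : H ≤ (quo (Z0.map ι)).dom := cents_norm cZ
  have ZQ : Z0.map ι ≤ Q0.map ι := map_mono Z_Q
  have kr := quo_ker (Z0.map ι)
  have hO := JS.Cz.Ohat (map_pig Z0) cZ (h.mle _)
  generalize hφ : quo (Z0.map ι) = φ at d kr hO
  obtain ⟨j, ja, jm, jr⟩ : ∃ j : Su →* Quo (Z0.map ι), (∀ x, j x = φ.app (ι x)) ∧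
      (∀ A : Subgroup Su, A.map j = φ.im (A.map ι)) ∧ j.range = φ.im ι.range :=
    ⟨_, push_app (h.le.trans d), push_map _, push_range _⟩
  have j1 : ∀ x, j x = 1 ↔ x ∈ Z0 := fun x => by
    rw [← h.mem_iff, ← SetLike.ext_iff.1 kr, PHom.mem_ker, ja, and_iff_right (d (h.mem x))]
  have jH : ∀ x, j x ∈ φ.im H := fun x => ja x ▸ app_mem_im (h.mem x) (d (h.mem x))
  have lx : Lx (#(φ.im H) + 1) (Q0.map j) (φ.im H) := ⟨ih_all _, Nat.lt_succ_self _, ⟨le_C_iff.2 (by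
      rintro _ ⟨x, a, rfl⟩ _ ⟨y, b, rfl⟩
      have := (j1 _).2 (cmZ a b)
      rwa [map_mul, map_mul, map_mul, map_inv, map_inv, mul_inv_eq_one, mul_inv_eq_iff_eq_mul] at this), by
      rintro _ ⟨x, a, rfl⟩
      rw [pow_two, ← map_mul, j1]; exact (d2 x a).1⟩, jm _ ▸ im_mono (h.mle _),
    jm _ ▸ (GF.scl_syl h.syl (by
      rintro _ ⟨y, a, rfl⟩ g b ⟨x, e⟩
      exact e ▸ mem_im (h.czQ c a ⟨g, b, e.symm⟩))).im d (h.mle _) (map_pig _)⟩
  have ZM : Z0.map ι ≤ O[{2}ᶜ](H) ⊔ H ⊓ N[Q0.map ι] :=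
    (le_inf (h.mle _) (ZQ.trans (normG _))).trans le_sup_right
  have MH : O[{2}ᶜ](H) ⊔ H ⊓ N[Q0.map ι] ≤ H := sup_le (O_le _ _) inf_le_left
  refine le_of_im_le d (MH.trans d) (kr.le.trans ZM) (lx.gen ?_ ?_ fun L hL n => ?_)
  · exact (im_pre (O_le _ _)).ge.trans (im_mono (hO.trans (sup_le le_sup_left ZM)))
  · rw [jm, ← im_IN d ((h.mle _).trans d) (kr.le.trans ZQ)]; exact im_mono le_sup_right
  exfalso
  obtain ⟨B, D, X, p⟩ := lx.pr hL n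
  have mQ : ∀ x, j x ∈ Q0.map j → x ∈ Q0 := by
    rintro x ⟨y, a, e⟩
    exact (mul_mem_cancel_left (inv_mem a)).1 (Z_Q ((j1 _).1 (by rw [map_mul, map_inv, e, inv_mul_cancel])))
  have lift : ∀ g ∈ H, ∀ a b, φ.app g * j a * (φ.app g)⁻¹ = j b → ∃ w ∈ Z0, g * ι a * g⁻¹ = ι (b * w) := fun g i a b e => by
    have k := mul_mem (mul_mem i (h.mem a)) (inv_mem i)
    rw [ja, ja, ← app_conj (d i) (d (h.mem a)), eq_comm, app_eq_iff (d (h.mem b)) (d k), kr] at e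
    obtain ⟨w, w1, w2⟩ := e
    exact ⟨w, w1, by rw [map_mul, w2, mul_inv_cancel_left]⟩
  have F1 : ∀ a, j a ∈ D → a ∉ Z0 → ∀ b, j b ∈ D → b ∉ Z0 →
      a * a = b * b ∧ ∀ s, j s ∈ B → s * a = a * s → s * b = b * s := fun a a1 a2 b b1 b2 => by
    obtain ⟨g, g1, e⟩ := p.tr _ a1 (mt (j1 _).1 a2) _ b1 (mt (j1 _).1 b2)
    obtain ⟨g, i, rfl⟩ := (mem_im' d).1 (hL.le (p.XL g1))
    obtain ⟨w, w1, w2⟩ := lift g i a b e
    refine ⟨h.inj ?_, fun s s1 k => ?_⟩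
    · rw [← Cz.cz (c i) (d2 a (mQ a (p.DA a1))).1, map_mul, ← conj_mul, w2, ← map_mul, mul_assoc, ← mul_assoc w,
        ← zc w1, mul_assoc b w, zz w w1, mul_one]
    · obtain ⟨v, v1, v2⟩ := lift g i s s (by rw [← mem_C.1 (p.XC g1) _ s1, mul_inv_cancel_right])
      have : s * v * (b * w) = b * w * (s * v) := h.inj (by
        rw [map_mul, map_mul ι (b * w), ← v2, ← w2, conj_mul, conj_mul, ← map_mul, ← map_mul, k])
      rw [(show Commute v b from (zc v1 b).symm).mul_mul_mul_comm, (show Commute w s from (zc w1 s).symm).mul_mul_mul_comm,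
        zc w1 v] at this
      exact mul_right_cancel this
  obtain ⟨a, a1, a2, b, b1, b2, ab⟩ : ∃ a, j a ∈ D ∧ a ∉ Z0 ∧ ∃ b, j b ∈ D ∧ b ∉ Z0 ∧ a * b ∉ Z0 := by
    obtain ⟨y, y1, y2⟩ := exists_mem_ne_one p.Dne
    obtain ⟨a, -, rfl⟩ := p.DA y1
    refine ⟨a, y1, mt (j1 _).2 y2, ?_⟩
    by_contra! k
    have : (D : Set (Quo (Z0.map ι))) ⊆ {1, (j a)⁻¹} := fun y hy => by
      obtain ⟨b, -, rfl⟩ := p.DA hy
      refine or_iff_not_imp_left.2 fun e => eq_inv_of_mul_eq_one_right ?_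
      rw [← map_mul, j1]; exact k b hy (mt (j1 _).2 e)
    have k := (Set.ncard_le_ncard this).trans (Set.ncard_insert_le _ _)
    have f := p.four
    rw [Set.ncard_singleton] at k
    change _ ≤ (D : Set (Quo (Z0.map ι))).ncard at f
    omega
  have ab1 : j (a * b) ∈ D := map_mul j a b ▸ mul_mem a1 b1
  have aQ := mQ a (p.DA a1)
  have bQ := mQ b (p.DA b1)
  have cB : ∀ s, j s ∈ B → s * a = a * s := fun s i => by_contra fun k =>
    k ((F1 _ ab1 ab a a1 a2).2 s i (bil (mQ s (p.BA i)) aQ k bQ fun l => k ((F1 b b1 b2 a a1 a2).2 s i l)))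
  have cB' : ∀ s, j s ∈ B → s * b = b * s := fun s i => (F1 a a1 a2 b b1 b2).2 s i (cB s i)
  have aa : a * a = z0 := ((mem_Z0 _).1 (d2 a aQ).1).resolve_left fun e => by
    have cD : ∀ s, j s ∈ D → s * a = a * s := fun s i => by
      by_cases s1 : s ∈ Z0
      · exact (zc s1 a).symm
      by_cases s2 : a * s ∈ Z0
      · have := zc s2 a⁻¹
        rw [inv_mul_cancel_left] at this
        exact (mul_inv_eq_iff_eq_mul.1 this.symm).symm
      have u := (F1 _ (map_mul j a s ▸ mul_mem a1 i) s2 a a1 a2).1.trans e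
      have v := (F1 s i s1 a a1 a2).1.trans e
      rw [← inv_eq_of_mul_eq_one_right u, mul_inv_rev, inv_eq_of_mul_eq_one_right e, inv_eq_of_mul_eq_one_right v]
    have m : ∀ E ≤ Q0.map j, (∀ s, j s ∈ E → s * a = a * s) → E ≤ C1[a].map j := fun E l k y i => by
      obtain ⟨s, -, rfl⟩ := l i
      exact mem_im (mem_C1.2 (k s i))
    refine a2 (cenQ a fun y i => ?_)
    obtain ⟨s, s1, s2⟩ := (p.sup.ge.trans (sup_le (m B p.BA cB) (m D p.DA cD))) (mem_im i)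
    have := mul_mem s1 (mem_C1.2 (zc ((j1 (s⁻¹ * y)).1 (by rw [map_mul, map_inv, s2, inv_mul_cancel])) a).symm)
    rw [mul_inv_cancel_left] at this
    exact (mem_C1.1 this).symm
  have sq : ∀ s, j s ∈ D → s ∉ Z0 → s * s = z0 := fun s i k => (F1 s i k a a1 a2).1.trans aa
  have bb := sq b b1 b2
  have cc := sq _ ab1 ab
  have nA : ∀ s, j s ∈ N[Q0.map j] := fun s => rg_norm n_Q (mem_rg s)
  have ot : ∀ s, j s ∉ N[L] → ∀ y, j y ∈ D → j (s * y * s⁻¹) ∈ B := fun s k y i => by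
    have m := hL.cj (j s)
    rw [cj_of_mem (jH s)] at m
    rw [map_mul, map_mul, map_inv]
    exact p.orth m (fun e => k (mem_N_iff_cj.2 e.symm)) ⟨conj_mem (nA s) (p.DA i), mem_cj_conj.2 (p.DL (lx.nA hL) i)⟩
  have o1 : φ.im H ⊓ N[L] ⊓ N[Q0.map j] ≤ N[D] → ∀ s, j s ∈ N[L] → ∀ y, j y ∈ D →
      y * (s * y * s⁻¹) ∉ Z0 → y * (s * y * s⁻¹) * (y * (s * y * s⁻¹)) = z0 := fun k s l y i => sq _ (by
    rw [map_mul, map_mul, map_mul, map_inv]
    exact mul_mem i (conj_mem (k ⟨⟨jH s, l⟩, nA s⟩) i))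
  have o2 : (∀ u ∈ φ.im H ⊓ N[L] ⊓ N[Q0.map j], PiE {2} u → ⁅Q0.map j, zpowers u⁆ ≤ B) → ∀ s, j s ∈ N[L] →
      ∀ q ∈ Q0, j (cm q s) ∈ B := fun k s l q i => by
    rw [cm, map_mul, map_mul, map_mul, map_inv, map_inv]
    exact k _ ⟨⟨jH s, l⟩, nA s⟩ ((rg_pig j).elt (mem_rg s)) (comm_mem (mem_im i) (mem_zpowers _))
  by_cases nt : j t0 ∈ N[L]
  swap
  · have ns : j s1 ∉ N[L] := fun k => nt (by
      have := mul_mem (mul_mem k k) (lx.nA hL (mem_im l6))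
      rwa [← map_mul, ← map_mul, mul_inv_cancel_left] at this)
    exact l1 a aQ aa b bQ bb cc (cB _ (ot _ nt a a1)) (cB' _ (ot _ nt a a1)) (cB _ (ot _ nt b b1))
      (cB' _ (ot _ nt b b1)) (cB _ (ot _ ns a a1)) (cB' _ (ot _ ns a a1)) (cB _ (ot _ ns b b1)) (cB' _ (ot _ ns b b1))
  have R : a ∈ R0 ∧ b ∈ R0 := by
    rcases p.sh with k | ⟨-, k⟩
    · exact ⟨(l3 a aQ aa).1 (by_contra fun l => (l3 a aQ aa).2.1 (o1 k _ nt a a1 l)),
        (l3 b bQ bb).1 (by_contra fun l => (l3 b bQ bb).2.1 (o1 k _ nt b b1 l))⟩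
    · have u := o2 k _ nt q1 (by decide)
      have v := o2 k _ nt q2 (by decide)
      exact ⟨l4 a aQ (cB _ u) (cB _ v), l4 b bQ (cB' _ u) (cB' _ v)⟩
  have fin : ∀ s ∈ R0, j s ∈ B → s * s = z0 → False := fun s i k e =>
    l2 a aQ R.1 aa b bQ R.2 bb cc s (mQ s (p.BA k)) i e (cB s k) (cB' s k)
  by_cases ns : j s1 ∈ N[L]
  swap
  · exact fin _ (conj_mem (n_R (mem_top s1)) R.1) (ot _ ns a a1) (by rw [conj_mul, aa]; decide)
  rcases p.sh with k | ⟨-, k⟩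
  · exact ((l3 a aQ aa).2.2 R.1).2 (o1 k _ ns a a1 ((l3 a aQ aa).2.2 R.1).1)
  · exact fin _ l5.2.1 (o2 k _ ns q1 (by decide)) l5.2.2

theorem nQ (o : O[{2}ᶜ](H) = ⊥) : H ≤ N[Q0.map ι] :=
  (h.normQ c).trans (sup_le (o ▸ bot_le) inf_le_right)

theorem cQ (o : O[{2}ᶜ](H) = ⊥) : H ⊓ C[Q0.map ι] ≤ Z0.map ι := by
  have cZ : H ≤ C[Z0.map ι] := by rwa [map_Z, C_zpowers]
  have n : H ≤ N[H ⊓ C[Q0.map ι]] := normI (normG H) (normC (h.nQ c o))
  have s := h.syl.inf_norm' inf_le_left n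
  have l : ι.range ⊓ (H ⊓ C[Q0.map ι]) ≤ Z0.map ι := fun _ hx => by
    obtain ⟨⟨x, rfl⟩, -, a⟩ := hx
    exact mem_im (cenQ x fun y b => h.inj (by rw [map_mul, map_mul]; exact (mem_C.1 a _ (mem_im b)).symm))
  have d := (burnside p2 s (inf_le_left.trans (inf_le_left.trans (cZ.trans (centS l))))).sdprod s
  exact d.sup.ge.trans (sup_le ((O_le_of_normal _ inf_le_left n).trans (o ▸ bot_le)) l)

end TU

end Cfsg.Agent.U5
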