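import Cfsg.Agent.U5.Sg
import Cfsg.Agent.JS.Def

/-! # Groups with a Sylow `2`-subgroup of type `U₅(2)`: definitions -/

set_option autoImplicit false
set_option linter.unusedVariables false
set_option linter.unusedSectionVars false

namespace Cfsg.Agent.U5
open Cfsg Cfsg.Agent.BG Subgroup PHom
open Cfsg.Agent.JS (Cj)
open Cfsg.Agent.S3F (p2 SCl)
open Cfsg.Agent.GF (Lx Pr Cp Tr bar ih_all)
open Cfsg.Agent.G75 (Q Q_le Q_odd)

universe u

variable {G : Type u} [Group G] [Finite G] {ι : Su →* G} {H K P R X Y : Subgroup G} {A B : Subgroup Su}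
  {x y : Su} {a b g w : G}

variable {G' : Type u} [Group G'] [Finite G'] {φ : PHom G G'}

/-- the injective `ι` has a Sylow `2`-subgroup of `H` as its range -/
structure TU (ι : Su →* G) (H : Subgroup G) : Prop where
  inj : Function.Injective ι
  syl : Syl 2 ι.range H

/-- the odd subgroups normal in `C(a, b)` lie in the core `Q b` of `C(b)` -/
def Bal (b : G) : Prop := ∀ a ∈ C1[b], a * a = 1 → ∀ X : Subgroup G, PiG {2}ᶜ X → X ≤ C1[a] ⊓ C1[b] →
  C1[a] ⊓ C1[b] ≤ N[X] → X ≤ Q b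

instance (t : Su) : DecidablePred (· ∈ C1[t]) := fun y => decidable_of_iff (y * t = t * y) mem_C1.symm

theorem map_le (A : Subgroup Su) : A.map ι ≤ ι.range := map_le_range _ _
theorem mem_im (h : x ∈ A) : ι x ∈ A.map ι := mem_map_of_mem _ h
theorem mem_rg (x : Su) : ι x ∈ ι.range := ⟨x, rfl⟩
theorem rg_pig (ι : Su →* G) : PiG {2} ι.range := by
  rw [MonoidHom.range_eq_map]
  exact (pig_of_card_pow (n := 10) p2 (by rw [card_top, Su.card]; rfl)).map ι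
theorem map_pig (A : Subgroup Su) : PiG {2} (A.map ι) := (rg_pig ι).of_le (map_le A)
theorem rg_cen : ι.range ≤ C1[ι z0] := by
  rintro _ ⟨x, rfl⟩
  rw [mem_C1, ← map_mul, ← map_mul, z0_cen]

/-- the composite with a partial homomorphism -/
def push (φ : PHom G G') (ι : Su →* G) (d : ι.range ≤ φ.dom) : Su →* G' :=
  φ.hom.comp (ι.codRestrict φ.dom fun x => d (mem_rg x))

theorem push_app (d : ι.range ≤ φ.dom) (x : Su) : push φ ι d x = φ.app (ι x) := (app_eq (d (mem_rg x))).symm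

theorem push_map (d : ι.range ≤ φ.dom) (A : Subgroup Su) : A.map (push φ ι d) = φ.im (A.map ι) := by
  ext y
  rw [PHom.mem_im' ((map_le A).trans d)]
  exact ⟨fun ⟨x, a, b⟩ => ⟨ι x, mem_im a, (push_app d x).symm.trans b⟩,
    fun ⟨_, ⟨x, a, rfl⟩, b⟩ => ⟨x, a, (push_app d x).trans b⟩⟩

theorem push_range (d : ι.range ≤ φ.dom) : (push φ ι d).range = φ.im ι.range := by
  rw [MonoidHom.range_eq_map, push_map, ← MonoidHom.range_eq_map]

namespace TU
variable (h : TU ι H)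
include h

theorem le : ι.range ≤ H := h.syl.le
theorem mem (x : Su) : ι x ∈ H := h.le (mem_rg x)
theorem mle (A : Subgroup Su) : A.map ι ≤ H := (map_le A).trans h.le
theorem eq : ι x = ι y ↔ x = y := h.inj.eq_iff
theorem mem_iff : ι x ∈ A.map ι ↔ x ∈ A := mem_map_iff_mem h.inj
theorem ne_one (a : x ≠ 1) : ι x ≠ 1 := fun e => a (h.inj (e.trans (map_one ι).symm))
theorem card (A : Subgroup Su) : #(A.map ι) = #A := card_map_inj h.inj A
theorem card_rg : #ι.range = 1024 := by rw [MonoidHom.range_eq_map, h.card, card_top, Su.card]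
theorem sub (l : ι.range ≤ K) (l' : K ≤ H) : TU ι K := ⟨h.inj, h.syl.sub l l'⟩
theorem cz : TU ι (H ⊓ C1[ι z0]) := h.sub (le_inf h.le rg_cen) inf_le_left
theorem cj (x s : Su) : Cj H (ι x) (ι (s * x * s⁻¹)) := ⟨ι s, h.mem s, by simp⟩
theorem cj' (e : ∃ s, s * x * s⁻¹ = y) : Cj H (ι x) (ι y) := by
  obtain ⟨s, rfl⟩ := e
  exact h.cj x s

theorem push (d : H ≤ φ.dom) (o : PiG {2}ᶜ φ.ker) : TU (push φ ι (h.le.trans d)) (φ.im H) := by
  refine ⟨(injective_iff_map_eq_one _).2 fun x e => ?_, push_range (h.le.trans d) ▸ h.syl.im d⟩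
  rw [push_app] at e
  exact h.inj ((mem_bot.1 ((rg_pig ι).inf_bot o ▸ mem_inf.2 ⟨mem_rg x, mem_ker.2 ⟨d (h.mem x), e⟩⟩)).trans
    (map_one ι).symm)

/-- a `2`-subgroup is conjugate into the range -/
theorem cj_sub (l : X ≤ H) (p : PiG {2} X) : ∃ g ∈ H, BG.cj g X ≤ ι.range := h.syl.cj_sub p2 l p
end TU


theorem ab_of (A : Subgroup Su) (h1 : ∀ x ∈ A, ∀ y ∈ A, x * y = y * x) (h2 : ∀ x ∈ A, x * x = 1) : Abelem 2 A :=
  ⟨le_C_iff.2 h1, fun x a => (pow_two x).trans (h2 x a)⟩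
theorem ab_V : Abelem 2 V0 := ab_of _ (by decide +kernel) (by decide +kernel)
theorem E_V : E0 ≤ V0 := fun x => (by decide +kernel : ∀ x ∈ E0, x ∈ V0) x
theorem U_V : U0 ≤ V0 := fun x => (by decide +kernel : ∀ x ∈ U0, x ∈ V0) x
theorem E_Q : E0 ≤ Q0 := fun x => (by decide +kernel : ∀ x ∈ E0, x ∈ Q0) x
theorem V_R : V0 ≤ R0 := fun x => (by decide +kernel : ∀ x ∈ V0, x ∈ R0) x
theorem Z_E : Z0 ≤ E0 := fun x => (by decide +kernel : ∀ x ∈ Z0, x ∈ E0) x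
theorem Z_U : Z0 ≤ U0 := fun x => (by decide +kernel : ∀ x ∈ Z0, x ∈ U0) x
theorem VQ : ∀ x ∈ V0, x ∈ Q0 → x ∈ E0 := by decide +kernel
theorem sing_V : ∀ x ∈ sing, x ∈ V0 := by decide +kernel
theorem z_Z : z0 ∈ Z0 := by decide
theorem n_of (A : Subgroup Su) (h : ∀ s, ∀ x ∈ A, s * x * s⁻¹ ∈ A) : ⊤ ≤ N[A] := le_N_iff.2 fun s _ => h s
theorem n_V : ⊤ ≤ N[V0] := n_of _ fun s x a => (by decide +kernel : ∀ x ∈ V0, ∀ s, s * x * s⁻¹ ∈ V0) x a s
theorem n_E : ⊤ ≤ N[E0] := n_of _ fun s x a => (by decide +kernel : ∀ x ∈ E0, ∀ s, s * x * s⁻¹ ∈ E0) x a s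
/-- the map `x ↦ (e, f)` onto the quaternion group has kernel `Q` -/
def pr (x : Su) : Su := ⟨0, 0, 0, x.e, x.f, false⟩
theorem pr_mul (x y : Su) : pr (x * y) = pr (pr x * pr y) := rfl
theorem mem_Q0 : ∀ x, x ∈ Q0 ↔ pr x = 1 := by decide +kernel
theorem n_Q : ⊤ ≤ N[Q0] := n_of _ fun s x a => by
  rw [mem_Q0, pr_mul, pr_mul s x, (mem_Q0 x).1 a, mul_one]
  exact (by decide +kernel : ∀ s : Su, pr (pr (pr s) * pr s⁻¹) = 1) s
theorem n_R : ⊤ ≤ N[R0] := n_of _ fun s x a => by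
  have a : x.a = 0 := by simpa [R0, Su.sub, pR] using a
  show (s.a + x.a + s.a == 0) = true
  rw [a]; generalize s.a = k; revert k; decide
theorem Z0_eq : Z0 = zpowers z0 :=
  (eq_zpowers_of_prime (card_Z0.symm ▸ p2) z_Z (by decide)).symm
theorem rg_norm (h : ⊤ ≤ N[A]) : ι.range ≤ N[A.map ι] := by
  rw [MonoidHom.range_eq_map]; exact norm_map h ι
theorem map_Z : Z0.map ι = zpowers (ι z0) := by rw [Z0_eq, MonoidHom.map_zpowers]
theorem map_C1 (x : Su) : C1[x].map ι ≤ C1[ι x] := by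
  rintro _ ⟨y, a, rfl⟩
  rw [mem_C1, ← map_mul, ← map_mul, mem_C1.1 a]
theorem cjsq (e : g * ι x * g⁻¹ = a) (h : x * x = 1) : a * a = 1 := by
  rw [← e, show g * ι x * g⁻¹ * (g * ι x * g⁻¹) = g * ι (x * x) * g⁻¹ by rw [map_mul]; group, h]; simp
theorem cj_Q (g a : G) : BG.cj g (Q a) = Q (g * a * g⁻¹) := by rw [Q, cj_O, cj_C1]

/-- the map induced by conjugation on a part of `Su` -/
structure Pull (ι : Su →* G) (g : G) (A : Subgroup Su) (σ : Su → Su) : Prop where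
  eq : ∀ x ∈ A, ι (σ x) = g * ι x * g⁻¹
  mul : ∀ x ∈ A, ∀ y ∈ A, σ (x * y) = σ x * σ y
  inj : ∀ x ∈ A, ∀ y ∈ A, σ x = σ y → x = y
  one : σ 1 = 1

namespace Pull
variable {σ : Su → Su} (q : Pull ι g A σ)
include q
theorem ne (a : x ∈ A) (b : y ∈ A) (n : x ≠ y) : σ x ≠ σ y := fun e => n (q.inj x a y b e)
theorem ne1 (a : x ∈ A) (n : x ≠ 1) : σ x ≠ 1 := q.one ▸ q.ne a (one_mem _) n
theorem sq (a : x ∈ A) (e : x * x = y) : σ x * σ x = σ y := by rw [← q.mul x a x a, e]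
theorem sq1 (a : x ∈ A) (e : x * x = 1) : σ x * σ x = 1 := (q.sq a e).trans q.one
theorem cm (a : x ∈ A) (b : y ∈ A) (e : x * y = y * x) : σ x * σ y = σ y * σ x := by
  rw [← q.mul x a y b, ← q.mul y b x a, e]
theorem cj (hg : g ∈ H) (a : x ∈ A) : Cj H (ι x) (ι (σ x)) := ⟨g, hg, (q.eq x a).symm⟩
theorem mem (a : x ∈ A) : ι (σ x) ∈ BG.cj g (A.map ι) := q.eq x a ▸ mem_cj_conj.2 (mem_im a)
end Pull

namespace TU
variable (h : TU ι H)
include h

theorem pull (l : BG.cj g (A.map ι) ≤ ι.range) : ∃ σ, Pull ι g A σ := by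
  have : ∀ x, ∃ y, x ∈ A → ι y = g * ι x * g⁻¹ := fun x => by
    by_cases a : x ∈ A
    · obtain ⟨y, e⟩ := l (mem_cj_conj.2 (mem_im a))
      exact ⟨y, fun _ => e⟩
    · exact ⟨1, fun b => (a b).elim⟩
  choose σ e using this
  refine ⟨σ, e, fun x a y b => h.inj ?_, fun x a y b c => h.inj ?_, h.inj ?_⟩
  · rw [map_mul, e _ (mul_mem a b), e x a, e y b, map_mul]; group
  · have := (e x a).symm.trans ((congrArg ι c).trans (e y b))
    simpa using this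
  · rw [e 1 (one_mem _)]; simp

theorem inf_C1 (x : Su) : ι.range ⊓ C1[ι x] = C1[x].map ι := by
  refine le_antisymm ?_ (le_inf (map_le _) (map_C1 x))
  rintro _ ⟨⟨y, rfl⟩, a⟩
  exact mem_im (mem_C1.2 (h.inj (by rw [map_mul, map_mul]; exact mem_C1.1 a)))

theorem ord (e : x * x = 1) (n : x ≠ 1) : orderOf (ι x) = 2 :=
  orderOf_of_pow p2 (by rw [pow_two, ← map_mul, e, map_one]) (h.ne_one n)
theorem ordz : orderOf (ι z0) = 2 := h.ord (by decide) (by decide)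

/-- a conjugate of `z` is extremal only in `z` -/
theorem toZ (e : Cj H (ι x) (ι z0)) :
    ∃ g ∈ H, g * ι x * g⁻¹ = ι z0 ∧ BG.cj g (C1[x].map ι) ≤ ι.range := by
  obtain ⟨k, a, e⟩ := e
  obtain ⟨c, b, d⟩ := h.cz.cj_sub (X := BG.cj k (C1[x].map ι)) (le_inf (cj_le_of_mem (h.mle _) (normG _ a))
    (by rw [← e, ← cj_C1]; exact cj_mono _ (map_C1 x))) ((map_pig _).cj _)
  refine ⟨c * k, mul_mem b.1 a, ?_, by rwa [cj_mul]⟩
  rw [show c * k * ι x * (c * k)⁻¹ = c * (k * ι x * k⁻¹) * c⁻¹ by group, e, mem_C1.1 b.2, mul_inv_cancel_right]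

/-- an involution is conjugate into `S` -/
theorem inv_in (hw : w ∈ H) (e : w * w = 1) : ∃ x, x * x = 1 ∧ Cj H w (ι x) := by
  obtain ⟨g, a, b⟩ := h.cj_sub (zpowers_le.2 hw) (pig_zpowers.2 (pie_of_pow p2 ((pow_two w).trans e)))
  obtain ⟨x, c⟩ := b (mem_cj_conj.2 (mem_zpowers w))
  refine ⟨x, h.inj ?_, g, a, c.symm⟩
  rw [map_mul, c, map_one, show g * w * g⁻¹ * (g * w * g⁻¹) = g * (w * w) * g⁻¹ by group, e]; group

end TU

end Cfsg.Agent.U5
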