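import Cfsg.Agent.U5.Def

/-! # Facts on the model -/

set_option autoImplicit false
set_option linter.unusedVariables false
set_option linter.unusedSectionVars false

namespace Cfsg.Agent.U5
open Cfsg Cfsg.Agent.BG Subgroup PHom
open Cfsg.Agent.JS (Cj)
open Cfsg.Agent.S3F (p2 SCl)
open Cfsg.Agent.GF (Lx Pr Cp Tr bar ih_all)
open Cfsg.Agent.G75 (Q Q_le Q_odd)

universe u

variable {G : Type u} [Group G] [Finite G] {ι : Su →* G} {H K P R X Y : Subgroup G} {A B : Subgroup Su}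
  {x y : Su} {a b g w : G}

theorem cardC' : ∀ t : Su, t * t = 1 → t ∉ V0 → (Su.all.filter (· ∈ C1[t])).length = 64 := by decide +kernel
theorem cardC (h1 : x * x = 1) (h2 : x ∉ V0) : #C1[x] = 64 := (card_sub _).trans (cardC' x h1 h2)
theorem C_t : ∀ s, s * t0 = t0 * s → s ∈ R0 := by decide +kernel
theorem R_V : ∀ v ∈ V0, ∀ s ∈ R0, s * v = v * s := by decide +kernel
theorem ZR' : ∀ x ∈ R0, (∀ s ∈ [s1, ⟨0, 0, 0, JS.F4.w, false, false⟩, ⟨0, 1, 0, 0, false, false⟩,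
    ⟨0, JS.F4.w, 0, 0, false, false⟩], s ∈ R0 → s * x = x * s) → x ∈ V0 := by decide +kernel
theorem ZR : Z[R0] = V0 := Subgroup.ext fun x =>
  ⟨fun a => ZR' x a.1 fun s _ b => mem_C.1 a.2 s b, fun a => ⟨V_R a, mem_C.2 (R_V x a)⟩⟩
theorem sq_sing : ∀ s ∈ R0, s * s = 1 ∨ s * s ∈ sing := by decide +kernel
theorem sing_sq : ∀ x ∈ sing, x ≠ 1 ∧ x * x = 1 ∧ ∃ s ∈ R0, s * s = x := by decide +kernel
theorem sing_t : ∀ x ∈ sing, x ≠ z0 → ∃ s, s * x * s⁻¹ = t0 := by decide +kernel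
theorem sing_pr : ∀ x ∈ V0, x ≠ 1 → x ∉ sing → ∃ p ∈ sing, ∃ q ∈ sing, p ≠ q ∧ p * q = x := by decide +kernel
theorem pr_hom (x y : Su) : pr (x * y) = pr x * pr y := (pr_mul x y).trans
  ((by decide +kernel : ∀ (e e' : JS.F4) (f f' : Bool), pr (⟨0, 0, 0, e, f, false⟩ * ⟨0, 0, 0, e', f', false⟩) =
    ⟨0, 0, 0, e, f, false⟩ * ⟨0, 0, 0, e', f', false⟩) _ _ _ _)
theorem pr_sq : ∀ u : Su, u * u ∈ Q0 → pr u = 1 ∨ pr u = t0 := by decide +kernel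
theorem pr_t : ∀ u : Su, t0 * pr u = pr u * t0 := by decide +kernel
theorem sqQ : ∀ u ∈ Q0, u * u ∈ Z0 := by decide +kernel
theorem q8 : ∀ x : Su, x * x = 1 → x ∉ V0 → ∃ i, i ∈ Q0 ∧ i * i = z0 ∧ i * x = x * i ∧ (∃ j, j ∈ Q0 ∧ j * j = z0 ∧
    j * x = x * j ∧ i * j * (i * j) = z0) ∧ ∃ u, u ∈ Q0 ∧ u * u = 1 ∧ u * x = x * u ∧ u * i = i * u * z0 := by
  decide +kernel
theorem zt0 : z0 * t0 = c0 := zt
theorem t_V : t0 ∈ V0 := by decide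
theorem z_V : z0 ∈ V0 := by decide
theorem c_V : c0 ∈ V0 := by decide

end Cfsg.Agent.U5
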