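import Cfsg.Agent.JS.Sg

/-! # The group `Su` of order `1024`: unitriangular matrices of `U₅(2)`

For the antidiagonal hermitian form, `(a, b, c, e, f, d)` is the matrix
`!![1, vA, D; 0, A, v*; 0, 0, 1]` with `v = (a, b, c)`, `v* = (c̄, b̄, ā)ᵀ`, `A = !![1, e, F; 0, 1, ē; 0, 0, 1]`,
where `F = FF x` and `D = DD x` are the elements of `F₄` with first bits `f`, `d` and the forced traces. -/

set_option autoImplicit false

namespace Cfsg.Agent.U5
open Cfsg.Agent.JS (F4)
open Cfsg.Agent.JS.F4

@[ext] structure Su where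
  a : F4
  b : F4
  c : F4
  e : F4
  f : Bool
  d : Bool
deriving DecidableEq

namespace Su
def all : List Su := F4.all.flatMap fun e => [false, true].flatMap fun f => F4.all.flatMap fun a =>
  F4.all.flatMap fun b => F4.all.flatMap fun c => [false, true].map fun d => ⟨a, b, c, e, f, d⟩
theorem mem_all (x : Su) : x ∈ all := by
  obtain ⟨a, b, c, e, f, d⟩ := x
  simp only [all, List.mem_flatMap, List.mem_map]
  exact ⟨e, F4.mem_all e, f, by cases f <;> decide, a, F4.mem_all a, b, F4.mem_all b, c, F4.mem_all c, d,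
    by cases d <;> decide, rfl⟩
instance (p : Su → Prop) [DecidablePred p] : Decidable (∀ x, p x) :=
  decidable_of_iff (∀ x ∈ all, p x) ⟨fun h x => h x (mem_all x), fun h x _ => h x⟩
instance (p : Su → Prop) [DecidablePred p] : Decidable (∃ x, p x) :=
  decidable_of_iff (∃ x ∈ all, p x) ⟨fun ⟨x, _, h⟩ => ⟨x, h⟩, fun ⟨x, h⟩ => ⟨x, mem_all x, h⟩⟩
instance : Fintype Su := Fintype.ofList all mem_all

def nm (x : F4) : Bool := x.1 || x.2
def FF (x : Su) : F4 := ⟨x.f, nm x.e⟩
def DD (x : Su) : F4 := ⟨x.d, xor (x.a * cj x.c).2 (nm x.b)⟩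
def mF (x y : Su) : F4 := FF x + FF y + x.e * cj y.e
def cD (a b c e F a' b' c' : F4) : F4 :=
  a * (cj c' + e * cj b' + F * cj a') + b * (cj b' + cj e * cj a') + c * cj a'
def mD (x y : Su) : F4 := DD x + DD y + cD x.a x.b x.c x.e (FF x) y.a y.b y.c
def mul (x y : Su) : Su :=
  ⟨x.a + y.a, x.b + y.b + x.e * y.a, x.c + y.c + cj x.e * y.b + cj (FF x) * y.a, x.e + y.e, (mF x y).1, (mD x y).1⟩
def inv0 (x : Su) : Su :=
  ⟨x.a, x.b + x.e * x.a, x.c + cj x.e * (x.b + x.e * x.a) + cj (FF x) * x.a, x.e, (cj (FF x)).1, false⟩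
def inv (x : Su) : Su := { inv0 x with d := (mD x (inv0 x)).1 }
instance : Mul Su := ⟨mul⟩
instance : One Su := ⟨⟨0, 0, 0, 0, false, false⟩⟩
instance : Inv Su := ⟨inv⟩

theorem trF (x : Su) : FF x + cj (FF x) = x.e * cj x.e :=
  (by decide : ∀ (f : Bool) (e : F4), (⟨f, nm e⟩ : F4) + cj ⟨f, nm e⟩ = e * cj e) x.f x.e
theorem trD (x : Su) : DD x + cj (DD x) = x.a * cj x.c + x.b * cj x.b + x.c * cj x.a :=
  (by decide +kernel : ∀ (d : Bool) (a b c : F4), (⟨d, xor (a * cj c).2 (nm b)⟩ : F4) + cj ⟨d, xor (a * cj c).2 (nm b)⟩ =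
    a * cj c + b * cj b + c * cj a) x.d x.a x.b x.c
theorem ext_tr : ∀ x y : F4, x.1 = y.1 → x + cj x = y + cj y → x = y := by decide
theorem FF_mul (x y : Su) : FF (mul x y) = mF x y := by
  refine ext_tr _ _ rfl ?_
  have a := trF x
  have b := trF y
  rw [trF]
  simp only [mul, mF, cj_add, cj_mul, cj_cj]
  linear_combination -a - b
theorem DD_mul (x y : Su) : DD (mul x y) = mD x y := by
  refine ext_tr _ _ rfl ?_
  have a := trD x
  have b := trD y
  have c := trF x
  rw [trD]
  simp only [mul, mD, cD, cj_add, cj_mul, cj_cj]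
  linear_combination -a - b + (y.a * cj y.a) * c + (x.e * y.a * cj x.e * cj y.a + y.a * cj x.e * cj y.b * 0 +
    y.b * cj x.e * cj y.a + x.e * y.a * cj y.b) * two

theorem assoc (x y z : Su) : mul (mul x y) z = mul x (mul y z) := by
  have hx := trF x
  have hy := trF y
  have eF : mF (mul x y) z = mF x (mul y z) := by
    rw [mF, mF, FF_mul, FF_mul]; simp only [mul, mF, cj_add]; ring
  have eD : mD (mul x y) z = mD x (mul y z) := by
    rw [mD, mD, DD_mul, DD_mul, FF_mul]; simp only [mul, mF, mD, cD, cj_add, cj_mul, cj_cj]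
    linear_combination (y.a * cj z.a) * hx + (x.e * cj x.e * y.a * cj z.a + x.e * y.a * cj z.b +
      x.e * y.a * cj y.e * cj z.a + cj x.e * cj z.a * y.b) * two
  refine Su.ext ?_ ?_ ?_ ?_ (congrArg F4.x0 eF) (congrArg F4.x0 eD)
  · simp only [mul]; ring
  · simp only [mul]; ring
  · show (mul x y).c + z.c + cj (mul x y).e * z.b + cj (FF (mul x y)) * z.a = _
    rw [FF_mul]; simp only [mul, mF, cj_add, cj_mul, cj_cj]; ring
  · simp only [mul]; ring

instance : Group Su := Group.ofLeftAxioms assoc (by decide +kernel) (by decide +kernel)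

def i4 (x : F4) : ℕ := x.1.toNat + 2 * x.2.toNat * (1 - x.1.toNat) + 2 * x.2.toNat * x.1.toNat
def ix (x : Su) : ℕ := ((((i4 x.e * 2 + x.f.toNat) * 4 + i4 x.a) * 4 + i4 x.b) * 4 + i4 x.c) * 2 + x.d.toNat
theorem nodup : all.Nodup :=
  List.Nodup.of_map ix ((by decide +kernel : all.map ix = List.range 1024) ▸ List.nodup_range)
theorem card_set (p : Su → Prop) [DecidablePred p] : Nat.card {x // p x} = (all.filter p).length := by
  rw [Nat.card_eq_fintype_card, Fintype.card_subtype, ← List.toFinset_card_of_nodup (nodup.filter _)]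
  exact congrArg Finset.card (Finset.ext fun x => by simp [mem_all])
theorem card : Nat.card Su = 1024 := by
  rw [← Nat.card_congr (Equiv.subtypeUnivEquiv (p := fun _ : Su => True) fun _ => trivial), card_set]
  decide +kernel

/-- a subgroup given by a test -/
def sub (p : Su → Bool) (h1 : p 1 = true) (h2 : ∀ x, p x = true → ∀ y, p y = true → p (x * y) = true)
    (h3 : ∀ x, p x = true → p x⁻¹ = true) : Subgroup Su :=
  ⟨⟨⟨{x | p x = true}, fun hx hy => h2 _ hx _ hy⟩, h1⟩, fun hx => h3 _ hx⟩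
end Su
open Su

/-- the central involution -/
def z0 : Su := ⟨0, 0, 0, 0, false, true⟩
/-- a second transvection -/
def t0 : Su := ⟨0, 0, 0, 0, true, false⟩
/-- `z t` -/
def c0 : Su := ⟨0, 0, 0, 0, true, true⟩
def w1 : Su := ⟨0, 0, 1, 0, false, false⟩
def w2 : Su := ⟨0, 0, w, 0, false, false⟩
def s1 : Su := ⟨0, 0, 0, 1, false, false⟩
/-- the five transvections -/
def sing : List Su := [z0, t0, ⟨0, 0, 1, 0, true, true⟩, ⟨0, 0, w, 0, true, true⟩, ⟨0, 0, ⟨true, true⟩, 0, true, true⟩]

def pQ (x : Su) : Bool := x.e == 0 && !x.f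
def pR (x : Su) : Bool := x.a == 0
def pV (x : Su) : Bool := x.e == 0 && x.a == 0 && x.b == 0
def pE (x : Su) : Bool := x.e == 0 && !x.f && x.a == 0 && x.b == 0
def pU (x : Su) : Bool := x.e == 0 && x.a == 0 && x.b == 0 && x.c == 0
def pZ (x : Su) : Bool := x.e == 0 && !x.f && x.a == 0 && x.b == 0 && x.c == 0

/-- extraspecial of order `128` and minus type -/
def Q0 : Subgroup Su := sub pQ (by decide) (by decide +kernel) (by decide +kernel)
/-- special of order `2 ^ (4 + 4)` -/
def R0 : Subgroup Su := sub pR (by decide) (fun x a y b => by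
  have a : x.a = 0 := by simpa [pR] using a
  have b : y.a = 0 := by simpa [pR] using b
  show (x.a + y.a == 0) = true
  simp [a, b]) (fun x a => a)
/-- the elementary abelian subgroup of order `16` -/
def V0 : Subgroup Su := sub pV (by decide) (by decide +kernel) (by decide +kernel)
/-- `V ∩ Q` -/
def E0 : Subgroup Su := sub pE (by decide) (by decide +kernel) (by decide +kernel)
/-- `{1, z, t, z t}` -/
def U0 : Subgroup Su := sub pU (by decide) (by decide +kernel) (by decide +kernel)
/-- the centre `{1, z}` -/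
def Z0 : Subgroup Su := sub pZ (by decide) (by decide +kernel) (by decide +kernel)

instance : DecidablePred (· ∈ Q0) := fun x => inferInstanceAs (Decidable (pQ x = true))
instance : DecidablePred (· ∈ R0) := fun x => inferInstanceAs (Decidable (pR x = true))
instance : DecidablePred (· ∈ V0) := fun x => inferInstanceAs (Decidable (pV x = true))
instance : DecidablePred (· ∈ E0) := fun x => inferInstanceAs (Decidable (pE x = true))
instance : DecidablePred (· ∈ U0) := fun x => inferInstanceAs (Decidable (pU x = true))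
instance : DecidablePred (· ∈ Z0) := fun x => inferInstanceAs (Decidable (pZ x = true))

theorem card_sub (A : Subgroup Su) [DecidablePred (· ∈ A)] : Nat.card A = (all.filter (· ∈ A)).length :=
  card_set (· ∈ A)

theorem card_Q0 : Nat.card Q0 = 128 := by rw [card_sub]; decide +kernel
theorem card_R0 : Nat.card R0 = 256 := by rw [card_sub]; decide +kernel
theorem card_V0 : Nat.card V0 = 16 := by rw [card_sub]; decide +kernel
theorem card_E0 : Nat.card E0 = 8 := by rw [card_sub]; decide +kernel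
theorem card_U0 : Nat.card U0 = 4 := by rw [card_sub]; decide +kernel
theorem card_Z0 : Nat.card Z0 = 2 := by rw [card_sub]; decide +kernel

theorem mem_U0 : ∀ x, x ∈ U0 ↔ x = 1 ∨ x = z0 ∨ x = t0 ∨ x = c0 := by decide +kernel
theorem mem_Z0 : ∀ x, x ∈ Z0 ↔ x = 1 ∨ x = z0 := by decide +kernel
theorem z0_cen : ∀ x, x * z0 = z0 * x := by decide +kernel
theorem zt : z0 * t0 = c0 := by decide
/-- the involutions -/
theorem invs : ∀ x : Su, x * x = 1 → x ∈ V0 ∨ x ∈ Q0 := by decide +kernel

end Cfsg.Agent.U5
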