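import Cfsg.Agent.U5.Bal
import Cfsg.Agent.H8.SE2
import Cfsg.Agent.S1175

/-! # The cores are trivial -/

set_option autoImplicit false
set_option linter.unusedVariables false
set_option linter.unusedSectionVars false

namespace Cfsg.Agent.U5
open Cfsg Cfsg.Agent.BG Subgroup PHom
open Cfsg.Agent.JS (Cj)
open Cfsg.Agent.S3F (p2 SCl)
open Cfsg.Agent.GF (Lx Pr Cp Tr bar ih_all)
open Cfsg.Agent.G75 (Q Q_le Q_odd)

universe u

variable {G : Type u} [Group G] [Finite G] {ι : Su →* G} {H K P R X Y : Subgroup G} {A B : Subgroup Su}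
  {x y : Su} {a b g w : G}

open Cfsg.Agent.SFT (Gen le_Gen Gen_le norm_Gen)

theorem cj_Gen (g : G) (V : Subgroup G) : BG.cj g (Gen V Q) ≤ Gen (BG.cj g V) Q :=
  cj_le_iff.2 (Gen_le fun a ha a1 => cj_le_iff.1 (by
    rw [cj_Q]; exact le_Gen (mem_cj_conj.2 ha) (by simpa using a1)))

theorem N_Gen (V : Subgroup G) : N[V] ≤ N[Gen V Q] := fun g hg =>
  mem_N_of_cj_le ((cj_Gen g V).trans (by rw [cj_of_mem_N hg]))

theorem nc2 (ha : a ∈ X) (hb : b ∈ X) (oa : orderOf a = 2) (ob : orderOf b = 2) (n : a ≠ b) : ¬ Cyc X := fun c =>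
  (SE.mem_zp0 ob (c.le_of_dvd (zpowers_le.2 ha) (zpowers_le.2 hb) (by rw [card_zpowers', card_zpowers', oa, ob])
    (mem_zpowers a))).elim (fun e => by rw [e, orderOf_one] at oa; omega) n

/-- an elementary abelian group all of whose involutions are balanced -/
def Gd (X : Subgroup G) : Prop := Abelem 2 X ∧ ∀ a ∈ X, a ≠ 1 → Bal a

theorem Gd.bal (h : Gd X) (ha : a ∈ X) (hb : b ∈ X) (b1 : b ≠ 1) : Q a ⊓ C1[b] ≤ Q b :=
  h.2 b hb b1 a (h.1.abel.trans (C_le_C1 hb) ha) ((pow_two a).symm.trans (h.1.pow a ha)) _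
    ((Q_odd a).of_le inf_le_left) (inf_le_inf_right _ (Q_le a))
    (normI (inf_le_left.trans (O_norm _ _)) (normsG inf_le_right))

theorem Gd.eq (h : Gd X) (l : Y ≤ X) (n : ¬ Cyc Y) : Gen Y Q = Gen X Q :=
  le_antisymm (Gen_le fun a ha a1 => le_Gen (l ha) a1) (Gen_le fun a ha a1 =>
    cop_gen_cent1 (h.1.of_le l).abel n (G75.nQ (l.trans (h.1.abel.trans (C_le_C1 ha))))
      (((h.1.of_le l).pig p2).coprime (Q_odd a)) fun b hb b1 => (h.bal ha (l hb) b1).trans (le_Gen hb b1))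

theorem Gd.link (h : Gd X) (h' : Gd Y) (ha : a ∈ X ⊓ Y) (hb : b ∈ X ⊓ Y) (oa : orderOf a = 2) (ob : orderOf b = 2)
    (n : a ≠ b) : Gen X Q = Gen Y Q :=
  (h.eq inf_le_left (nc2 ha hb oa ob n)).symm.trans (h'.eq inf_le_right (nc2 ha hb oa ob n))

theorem Gd.odd (h : Gd X) (c : 8 ≤ #X) : PiG {2}ᶜ (Gen X Q) :=
  SFT.famp (SFT.complete (θ := Q) ⟨abelem_iff.1 h.1, fun e _ _ => Q_le e,
    fun e _ _ => (pin_compl_cop p2).1 (Q_odd e), fun e he _ => G75.nQ (h.1.abel.trans (C_le_C1 he)),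
    fun e he e1 f hf f1 => h.bal he hf f1, fun e _ _ => H8.sol_of_odd (Q_odd e)⟩ (by omega))

theorem sg1 : ∀ x : Su, x * x = 1 → x ∉ V0 → (∃ u ∈ E0, u ∉ Z0 ∧ u * x = x * u) ∧
    ∀ f ∈ E0, f * x = x * f → ∃ s ∈ V0, s * x * s⁻¹ = f * x := by decide +kernel

namespace TU
variable (h : TU ι ⊤) (zt : Cj ⊤ (ι z0) (ι t0))
include h zt

theorem gdc (g : G) (l : A ≤ V0) : Gd (BG.cj g (A.map ι)) :=
  ⟨((ab_V.of_le l).map ι).cj g, fun a ha a1 => by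
    obtain ⟨_, ⟨x, b, rfl⟩, rfl⟩ := exists_of_mem_cj ha
    exact h.balV zt (l b) (fun e => a1 (by simp [e])) ⟨g, mem_top _, rfl⟩⟩

theorem gdV : Gd (V0.map ι) := cj_one (V0.map ι) ▸ h.gdc zt 1 le_rfl

theorem NU_W : N[U0.map ι] ≤ N[Gen (V0.map ι) Q] := by
  rw [← (h.gdV zt).eq (map_mono U_V) (nc2 (mem_im (x := z0) (by decide)) (mem_im (x := t0) (by decide)) h.ordz
    (h.ord (by decide) (by decide)) fun e => absurd (h.inj e) (by decide))]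
  exact N_Gen _

theorem M_W : C1[ι c0] ≤ N[Gen (V0.map ι) Q] :=
  (h.Cc zt).trans (sup_le ((le_Gen (θ := Q) (mem_im c_V) (h.ne_one (by decide))).trans (normG _))
    (inf_le_right.trans (h.NU_W zt)))

theorem H_W : C1[ι z0] ≤ N[Gen (V0.map ι) Q] := by
  refine (h.hz.normQ le_rfl).trans (sup_le ((le_Gen (θ := Q) (mem_im z_V) (h.ne_one (by decide))).trans (normG _))
    fun g hg => mem_N_of_cj_le ((cj_Gen g _).trans (le_of_eq ?_)))
  obtain ⟨x, -, e⟩ := conj_mem hg.2 (mem_im (x := w1) (by decide))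
  have x2 : x * x = 1 := h.inj (by rw [map_mul, map_one]; exact cjsq e.symm (by decide))
  have ez := cz_fix hg.1
  have x1 : x ≠ 1 := fun m => h.ne_one (show w1 ≠ 1 by decide) (by simpa [m] using e.symm)
  have zx : ι z0 ≠ ι x := fun m => absurd (h.inj (show ι z0 = ι w1 by simpa using ez.trans (m.trans e))) (by decide)
  have m1 : ι z0 ∈ BG.cj g (V0.map ι) := ez ▸ mem_cj_conj.2 (mem_im z_V)
  have m2 : ι x ∈ BG.cj g (V0.map ι) := e ▸ mem_cj_conj.2 (mem_im (by decide))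
  by_cases a : x ∈ V0
  · exact (h.gdc zt g le_rfl).link (h.gdV zt) ⟨m1, mem_im z_V⟩ ⟨m2, mem_im a⟩ h.ordz (h.ord x2 x1) zx
  obtain ⟨⟨u, u1, u2, u3⟩, k⟩ := sg1 x x2 a
  have c : zpowers (ι x) ≤ C[(E0 ⊓ C1[x]).map ι] :=
    zpowers_le.2 (le_C1_iff.1 ((map_mono inf_le_right).trans (map_C1 x)))
  have gd : Gd ((E0 ⊓ C1[x]).map ι ⊔ zpowers (ι x)) := by
    refine ⟨((ab_V.of_le (inf_le_left.trans E_V)).map ι).sup (((ab_V.map ι).cj g).of_le (zpowers_le.2 m2))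
      (cent_symm c),
      fun b hb b1 => ?_⟩
    obtain ⟨_, ⟨f, f1, rfl⟩, y, y1, rfl⟩ := (mem_sup_l (cents_norm c)).1 hb
    rcases SE.mem_zp0 (h.ord x2 x1) y1 with rfl | rfl
    · exact h.balV zt (E_V f1.1) (fun m => b1 (by simp [m])) (by rw [mul_one]; exact Cj.refl _ _)
    · obtain ⟨s, -, i⟩ := k f f1.1 (mem_C1.1 f1.2)
      exact h.balV zt (x := w1) (by decide) (by decide) (Cj.trans ⟨g, mem_top _, e.symm⟩ (map_mul ι f x ▸ h.cj' ⟨s, i⟩))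
  have mz : ι z0 ∈ (E0 ⊓ C1[x]).map ι ⊔ zpowers (ι x) :=
    mem_sup_left (mem_im ⟨Z_E z_Z, mem_C1.2 (z0_cen x).symm⟩)
  exact ((h.gdc zt g le_rfl).link gd ⟨m1, mz⟩ ⟨m2, mem_sup_right (mem_zpowers _)⟩ h.ordz (h.ord x2 x1) zx).trans
    (gd.link (h.gdV zt) ⟨mz, mem_im z_V⟩ ⟨mem_sup_left (mem_im ⟨u1, mem_C1.2 u3⟩), mem_im (E_V u1)⟩ h.ordz
      (h.ord ((pow_two u).symm.trans (ab_V.pow u (E_V u1))) fun m => u2 (by rw [m]; exact one_mem _))
      fun m => u2 (h.inj m ▸ z_Z))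

end TU

theorem TU.O_bot [IsSimpleGroup G] (h : TU ι ⊤) : Q (ι z0) = ⊥ ∧ Q (ι c0) = ⊥ := by
  have zt := h.fus.2
  have m1 := h.H_W zt
  have e : N[Gen (V0.map ι) Q] = ⊤ := by_contra fun n => by
    have se := ZD.s1175 n h.ordz (m1 (mem_C1_self _)) h.syl rg_cen (fun g a => by
      obtain ⟨x, x2, c⟩ := (h.sub (rg_cen.trans m1) le_top).inv_in a (cjsq rfl (by decide))
      have d : Cj ⊤ (ι z0) (ι x) := Cj.trans ⟨g, mem_top _, rfl⟩ (c.mono le_top)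
      obtain ⟨k, hk, f⟩ := c.trans ((h.ctrl (sing_V _ (h.dS d)) z_V d.symm).mono
        (inf_le_right.trans (h.NR_NV.trans (N_Gen _))))
      exact (mul_mem_cancel_left hk).1 (m1 (mem_C1.2 (mul_inv_eq_iff_eq_mul.1 (Eq.trans (by group) f)))))
      fun g a b => by
      obtain ⟨k, hk, f⟩ := h.pair ⟨g, mem_top _, rfl⟩ (mem_C1.2 a.symm) b
      have : ι z0 * (g * ι z0 * g⁻¹) = k⁻¹ * ι c0 * k⁻¹⁻¹ := by
        rw [← zt0, map_mul, ← f]
        nth_rewrite 3 [← cz_fix hk.2]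
        group
      rw [this, ← cj_C1]
      exact cj_le_of_mem (h.M_W zt) (normG _ (inv_mem (m1 hk.2)))
    obtain ⟨g, e⟩ := isConj_iff.1 (Inv.se_isConj se h.ordz (h.ord (x := c0) (by decide) (by decide)))
    exact absurd (h.dS ⟨g, mem_top _, e⟩) (by decide)
  rcases (normal_iff.2 e.ge).eq_bot_or_eq_top with i | i
  · exact ⟨le_bot_iff.1 (i ▸ le_Gen (mem_im z_V) (h.ne_one (by decide))),
      le_bot_iff.1 (i ▸ le_Gen (mem_im c_V) (h.ne_one (by decide)))⟩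
  · exact (h.ne_one (show z0 ≠ 1 by decide) (((rg_pig ι).elt (mem_rg _)).eq_one
      (((h.gdV zt).odd (by rw [h.card, card_V0]; omega)).elt (i ▸ mem_top _)))).elim

end Cfsg.Agent.U5
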